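import Mathlib
import Cfsg.Prelude.Def_Characters
import Cfsg.Agent.Lib.Helper2.Clifford

set_option autoImplicit false

namespace Cfsg.Agent.Lib.Helper2

open Module Representation
open scoped ComplexConjugate

section

variable {G : Type*} [Group G] [Fintype G]

/-- Removing an irreducible constituent from a character leaves a character. -/
theorem IsCharacter.sub_irr {χ ψ : G → ℂ} (hχ : Cfsg.IsCharacter G χ)
    (hψ : Cfsg.IsIrrCharacter G ψ) (h : Cfsg.classInner χ ψ ≠ 0) : Cfsg.IsCharacter G (χ - ψ) := by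
  classical
  haveI := finite_irr (G := G)
  cases nonempty_fintype (Cfsg.IrrCharacter G)
  obtain ⟨n, hn⟩ := IsCharacter.exists_eq_sum hχ
  have hnψ : n ⟨ψ, hψ⟩ ≠ 0 := by
    intro h0
    apply h
    rw [hn]
    have := classInner_sum_irr_left (fun φ => (n φ : ℂ)) ⟨ψ, hψ⟩
    rw [this, h0]
    simp
  have : χ - ψ = ∑ φ : Cfsg.IrrCharacter G,
      ((if φ = ⟨ψ, hψ⟩ then n φ - 1 else n φ : ℕ) : ℂ) • (φ : G → ℂ) := by
    rw [hn, sub_eq_iff_eq_add]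
    rw [← Finset.add_sum_erase _ _ (Finset.mem_univ (⟨ψ, hψ⟩ : Cfsg.IrrCharacter G)),
      ← Finset.add_sum_erase (a := (⟨ψ, hψ⟩ : Cfsg.IrrCharacter G)) Finset.univ
        (fun φ : Cfsg.IrrCharacter G =>
          ((if φ = ⟨ψ, hψ⟩ then n φ - 1 else n φ : ℕ) : ℂ) • (φ : G → ℂ)) (Finset.mem_univ _)]
    have h1 : ∑ φ ∈ Finset.univ.erase (⟨ψ, hψ⟩ : Cfsg.IrrCharacter G),
        ((if φ = ⟨ψ, hψ⟩ then n φ - 1 else n φ : ℕ) : ℂ) • (φ : G → ℂ) =
        ∑ φ ∈ Finset.univ.erase (⟨ψ, hψ⟩ : Cfsg.IrrCharacter G), (n φ : ℂ) • (φ : G → ℂ) := by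
      refine Finset.sum_congr rfl fun φ hφ => ?_
      rw [if_neg (Finset.ne_of_mem_erase hφ)]
    rw [h1, if_pos rfl]
    have h2 : ((n ⟨ψ, hψ⟩ - 1 : ℕ) : ℂ) = (n ⟨ψ, hψ⟩ : ℂ) - 1 := by
      rw [Nat.cast_sub (Nat.one_le_iff_ne_zero.mpr hnψ)]
      simp
    rw [h2, sub_smul, one_smul]
    abel
  rw [this]
  exact isCharacter_sum_nat _

end

end Cfsg.Agent.Lib.Helper2
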