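import Mathlib
import Cfsg.Prelude.Def_Characters
import Cfsg.Agent.Lib.Helper2.Clifford

set_option autoImplicit false

namespace Cfsg.Agent.Lib.Helper2

open Module Representation
open scoped ComplexConjugate

section

variable {G : Type*} [Group G]

theorem char_prod {V W : Type*} [AddCommGroup V] [Module ℂ V] [FiniteDimensional ℂ V]
    [AddCommGroup W] [Module ℂ W] [FiniteDimensional ℂ W]
    (ρ : Representation ℂ G V) (σ : Representation ℂ G W) :
    (ρ.prod σ).character = ρ.character + σ.character := by
  ext g
  simp only [Representation.character, Pi.add_apply]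
  rw [show (ρ.prod σ) g = (ρ g).prodMap (σ g) from rfl, LinearMap.trace_prodMap']

/-- A representation is the product of two complementary subrepresentations. -/
noncomputable def equivProdOfIsCompl {V : Type*} [AddCommGroup V] [Module ℂ V]
    {ρ : Representation ℂ G V} (A B : Subrepresentation ρ)
    (h : IsCompl A.toSubmodule B.toSubmodule) :
    (A.toRepresentation.prod B.toRepresentation).Equiv ρ :=
  Representation.Equiv.mk (Submodule.prodEquivOfIsCompl A.toSubmodule B.toSubmodule h) (by
    intro g
    ext x <;> simp [Subrepresentation.toRepresentation])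

/-- Product of equivalences. -/
noncomputable def equivProdCongr {V V' W W' : Type*} [AddCommGroup V] [Module ℂ V]
    [AddCommGroup V'] [Module ℂ V'] [AddCommGroup W] [Module ℂ W] [AddCommGroup W'] [Module ℂ W']
    {ρ : Representation ℂ G V} {ρ' : Representation ℂ G V'} {σ : Representation ℂ G W}
    {σ' : Representation ℂ G W'} (e : ρ.Equiv ρ') (f : σ.Equiv σ') :
    (ρ.prod σ).Equiv (ρ'.prod σ') :=
  Representation.Equiv.mk (e.toLinearEquiv.prodCongr f.toLinearEquiv) (by
    intro g
    ext x
    · exact IntertwiningMap.isIntertwining _ _ e.toIntertwiningMap g x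
    · simp
    · simp
    · exact IntertwiningMap.isIntertwining _ _ f.toIntertwiningMap g x)

/-- An injective intertwining map is an equivalence onto its range. -/
noncomputable def equivRangeOfInjective {V W : Type*} [AddCommGroup V] [Module ℂ V]
    [AddCommGroup W] [Module ℂ W] {ρ : Representation ℂ G V} {σ : Representation ℂ G W}
    (f : IntertwiningMap ρ σ) (hf : Function.Injective f) :
    ρ.Equiv f.range.toRepresentation :=
  Representation.Equiv.mk (LinearEquiv.ofInjective f.toLinearMap hf) (by
    intro g
    ext x
    exact IntertwiningMap.isIntertwining _ _ f g x)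

theorem exists_isCompl_subrep [Finite G] {V : Type*} [AddCommGroup V] [Module ℂ V]
    {ρ : Representation ℂ G V} (A : Subrepresentation ρ) :
    ∃ B : Subrepresentation ρ, IsCompl A.toSubmodule B.toSubmodule := by
  haveI : NeZero (Nat.card G : ℂ) := ⟨by exact_mod_cast (Nat.card_pos (α := G)).ne'⟩
  obtain ⟨B, hB⟩ := exists_isCompl A
  refine ⟨B, ?_, ?_⟩
  · rw [disjoint_iff]
    exact congrArg Subrepresentation.toSubmodule hB.inf_eq_bot
  · rw [codisjoint_iff]
    exact congrArg Subrepresentation.toSubmodule hB.sup_eq_top

/-- The inclusion of a subrepresentation. -/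
def subrepIncl {V : Type*} [AddCommGroup V] [Module ℂ V]
    {ρ : Representation ℂ G V} (A : Subrepresentation ρ) : IntertwiningMap A.toRepresentation ρ :=
  ⟨A.toSubmodule.subtype, fun _ => rfl⟩

end

universe u v w

theorem equiv_of_char_eq_aux {G : Type w} [Group G] [Fintype G] (n : ℕ) :
    ∀ (V : Type u) (W : Type v) [AddCommGroup V] [Module ℂ V] [FiniteDimensional ℂ V]
      [AddCommGroup W] [Module ℂ W] [FiniteDimensional ℂ W]
      (ρ : Representation ℂ G V) (σ : Representation ℂ G W),
      finrank ℂ V = n → ρ.character = σ.character → Nonempty (ρ.Equiv σ) := by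
  induction n using Nat.strong_induction_on with
  | _ n ih =>
  intro V W _ _ _ _ _ _ ρ σ hn hchar
  have hdim : finrank ℂ V = finrank ℂ W := by
    have := congrFun hchar 1
    rw [char_one, char_one] at this
    exact_mod_cast this
  rcases Nat.eq_zero_or_pos n with h0 | hpos
  · -- zero-dimensional case
    haveI : Subsingleton W := (Module.finrank_zero_iff (R := ℂ)).mp (by omega)
    exact ⟨Representation.Equiv.mk (LinearEquiv.ofFinrankEq V W hdim) (by
      intro g
      ext x
      exact Subsingleton.elim _ _)⟩
  · haveI : Nontrivial V := Module.nontrivial_of_finrank_pos (R := ℂ) (by omega)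
    obtain ⟨U, hU⟩ := exists_irreducible_subrep (ρ := ρ)
    haveI := hU
    -- there is a nonzero intertwiner from `U` to `W`
    have h1 : 0 < finrank ℂ (IntertwiningMap U.toRepresentation ρ) := by
      apply (Module.finrank_pos_iff_exists_ne_zero (R := ℂ)).mpr
      refine ⟨subrepIncl U, ?_⟩
      intro h
      haveI := nontrivial_of_isIrreducible U.toRepresentation
      obtain ⟨x, hx⟩ := exists_ne (0 : U.toSubmodule)
      apply hx
      have := congrArg (fun f : IntertwiningMap U.toRepresentation ρ => f x) h
      exact Subtype.ext this
    have h2 : finrank ℂ (IntertwiningMap U.toRepresentation σ) =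
        finrank ℂ (IntertwiningMap U.toRepresentation ρ) := by
      have e1 := classInner_char_eq_finrank U.toRepresentation σ
      have e2 := classInner_char_eq_finrank U.toRepresentation ρ
      rw [← hchar, e2] at e1
      exact_mod_cast e1.symm
    obtain ⟨f, hf⟩ := (Module.finrank_pos_iff_exists_ne_zero (R := ℂ)).mp (h2 ▸ h1)
    have hinj : Function.Injective f := (IsIrreducible.injective_or_eq_zero f).resolve_right hf
    obtain ⟨V₁, hV₁⟩ := exists_isCompl_subrep U
    obtain ⟨W₁, hW₁⟩ := exists_isCompl_subrep f.range
    have eV := equivProdOfIsCompl U V₁ hV₁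
    have eW := equivProdOfIsCompl f.range W₁ hW₁
    have eU := equivRangeOfInjective f hinj
    have hc : V₁.toRepresentation.character = W₁.toRepresentation.character := by
      have c1 := char_iso eV
      have c2 := char_iso eW
      rw [char_prod] at c1 c2
      have c3 := char_iso eU
      rw [← c1, ← c2, c3] at hchar
      exact add_left_cancel hchar
    have hlt : finrank ℂ V₁.toSubmodule < n := by
      have := Submodule.finrank_add_eq_of_isCompl hV₁
      have hUpos := finrank_pos_of_isIrreducible U.toRepresentation
      omega
    obtain ⟨e₁⟩ := ih _ hlt V₁.toSubmodule W₁.toSubmodule V₁.toRepresentation W₁.toRepresentation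
      rfl hc
    exact ⟨eV.symm.trans ((equivProdCongr eU e₁).trans eW)⟩

/-- Representations with equal characters are equivalent. -/
theorem equiv_of_char_eq {G : Type*} [Group G] [Finite G] {V W : Type*} [AddCommGroup V]
    [Module ℂ V] [FiniteDimensional ℂ V] [AddCommGroup W] [Module ℂ W] [FiniteDimensional ℂ W]
    (ρ : Representation ℂ G V) (σ : Representation ℂ G W) (h : ρ.character = σ.character) :
    Nonempty (ρ.Equiv σ) := by
  cases nonempty_fintype G
  exact equiv_of_char_eq_aux _ V W ρ σ rfl h

end Cfsg.Agent.Lib.Helper2
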