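import Mathlib
import Cfsg.Prelude.Def_Characters
import Cfsg.Agent.Lib.Helper2.Kernel
import Cfsg.Agent.Lib.Helper2.Clifford

set_option autoImplicit false

namespace Cfsg.Agent.Lib.Helper2

open Module Representation
open scoped ComplexConjugate

/-- Summation over a group of a function invariant under right translation by a subgroup. -/
theorem sum_eq_card_smul_sum_quotient {G M : Type*} [Group G] [Fintype G] [AddCommMonoid M]
    (Z : Subgroup G) [Fintype (G ⧸ Z)] (Φ : G → M) (hΦ : ∀ g, ∀ z ∈ Z, Φ (g * z) = Φ g) :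
    ∑ g, Φ g = Nat.card Z • ∑ q : G ⧸ Z, Φ q.out := by
  classical
  let e : (G ⧸ Z) × Z ≃ G := Equiv.ofBijective (fun p => p.1.out * p.2) (by
    constructor
    · rintro ⟨q, z⟩ ⟨q', z'⟩ h
      simp only at h
      have h1 : q = q' := by
        have := congrArg (fun x : G => (x : G ⧸ Z)) h
        simpa using this
      subst h1
      have h2 : (z : G) = z' := mul_left_cancel h
      exact Prod.ext rfl (Subtype.ext h2)
    · intro g
      obtain ⟨h, hh⟩ := QuotientGroup.mk_out_eq_mul Z g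
      exact ⟨((g : G ⧸ Z), h⁻¹), by simp [hh]⟩)
  rw [← e.sum_comp, Fintype.sum_prod_type, Finset.smul_sum]
  refine Finset.sum_congr rfl fun q _ => ?_
  have : ∀ z : Z, Φ (e (q, z)) = Φ q.out := fun z => hΦ _ _ z.2
  simp_rw [this]
  rw [Finset.sum_const, Finset.card_univ, Nat.card_eq_fintype_card]

section

variable {G : Type*} [Group G] [Fintype G] {V : Type*} [AddCommGroup V] [Module ℂ V]
  [FiniteDimensional ℂ V] (ρ : Representation ℂ G V)

/-- The `ℤ`-span of the operators `ζ • ρ g`, `ζ` a `|G|`-th root of unity. -/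
def intSpan : Submodule ℤ (Module.End ℂ V) :=
  Submodule.span ℤ {x | ∃ (ζ : ℂ) (g : G), ζ ^ Nat.card G = 1 ∧ x = ζ • ρ g}

theorem intSpan_fg : (intSpan ρ).FG := by
  apply Submodule.fg_span
  have hfin : {ζ : ℂ | ζ ^ Nat.card G = 1}.Finite := by
    have : {ζ : ℂ | ζ ^ Nat.card G = 1} ⊆ ↑(Polynomial.nthRootsFinset (Nat.card G) (1 : ℂ)) := by
      intro ζ hζ
      exact (Polynomial.mem_nthRootsFinset Nat.card_pos _).mpr hζ
    exact (Finset.finite_toSet _).subset this
  have : {x | ∃ (ζ : ℂ) (g : G), ζ ^ Nat.card G = 1 ∧ x = ζ • ρ g} ⊆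
      (fun p : ℂ × G => p.1 • ρ p.2) '' ({ζ : ℂ | ζ ^ Nat.card G = 1} ×ˢ Set.univ) := by
    rintro x ⟨ζ, g, hζ, rfl⟩
    exact ⟨(ζ, g), ⟨hζ, Set.mem_univ _⟩, rfl⟩
  exact ((hfin.prod Set.finite_univ).image _).subset this

theorem intSpan_mul_mem {x y : Module.End ℂ V} (hx : x ∈ intSpan ρ) (hy : y ∈ intSpan ρ) :
    x * y ∈ intSpan ρ := by
  have h1 : x * y ∈ intSpan ρ * intSpan ρ := Submodule.mul_mem_mul hx hy
  have h2 : intSpan ρ * intSpan ρ ≤ intSpan ρ := by
    unfold intSpan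
    rw [Submodule.span_mul_span]
    apply Submodule.span_mono
    rintro _ ⟨_, ⟨ζ, g, hζ, rfl⟩, _, ⟨ζ', g', hζ', rfl⟩, rfl⟩
    refine ⟨ζ * ζ', g * g', by rw [mul_pow, hζ, hζ', one_mul], ?_⟩
    simp only [map_mul, smul_mul_smul_comm]
  exact h2 h1

theorem smul_rho_mem_intSpan {ζ : ℂ} (hζ : ζ ^ Nat.card G = 1) (g : G) : ζ • ρ g ∈ intSpan ρ :=
  Submodule.subset_span ⟨ζ, g, hζ, rfl⟩

/-- `conj χ(g) • ρ g` lies in the integral span. -/
theorem conj_char_smul_mem_intSpan (g : G) : conj (ρ.character g) • ρ g ∈ intSpan ρ := by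
  obtain ⟨b, ζ, hpow, hn, hb, hχ⟩ := exists_eigenbasis_rep ρ g
  rw [hχ, map_sum, Finset.sum_smul]
  apply Submodule.sum_mem
  intro i _
  apply smul_rho_mem_intSpan
  rw [← map_pow]
  obtain ⟨k, hk⟩ := orderOf_dvd_natCard g
  rw [hk, pow_mul, hpow i, one_pow, map_one]

/-- A scalar `c` such that `c • id` lies in the integral span is an algebraic integer. -/
theorem isIntegral_of_smul_id_mem_intSpan [Nontrivial V] {c : ℂ}
    (hc : c • (1 : Module.End ℂ V) ∈ intSpan ρ) : IsIntegral ℤ c := by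
  apply isIntegral_of_smul_mem_submodule (intSpan ρ) _ (intSpan_fg ρ) c
  · intro y hy
    have := intSpan_mul_mem ρ hc hy
    simpa using this
  · intro h
    have h1 : (1 : ℂ) • ρ 1 ∈ intSpan ρ := smul_rho_mem_intSpan ρ (one_pow _) 1
    rw [h, Submodule.mem_bot, one_smul, map_one] at h1
    exact one_ne_zero h1

end

/-- A rational algebraic integer `a / b` gives divisibility. -/
theorem dvd_of_isIntegral_div {a b : ℕ} (hb : b ≠ 0) (h : IsIntegral ℤ ((a : ℂ) / (b : ℂ))) :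
    b ∣ a := by
  have h1 : IsIntegral ℤ ((a : ℚ) / (b : ℚ)) := by
    rw [← isIntegral_algebraMap_iff (algebraMap ℚ ℂ).injective]
    simpa using h
  obtain ⟨k, hk⟩ := IsIntegrallyClosed.isIntegral_iff.mp h1
  have hb' : (b : ℚ) ≠ 0 := by exact_mod_cast hb
  have h2 : (a : ℚ) = k * b := by
    have : (k : ℚ) = (a : ℚ) / b := by simpa using hk
    rw [this]
    field_simp
  have h3 : (a : ℤ) = k * b := by exact_mod_cast h2
  have h4 : (b : ℤ) ∣ (a : ℤ) := ⟨k, by rw [h3, mul_comm]⟩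
  exact_mod_cast h4

end Cfsg.Agent.Lib.Helper2
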