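import Mathlib
import Cfsg.Prelude.Def_Characters
import Cfsg.Agent.Lib.Helper2.Integral

set_option autoImplicit false

namespace Cfsg.Agent.Lib.Helper2

open Module Representation
open scoped ComplexConjugate

section

variable {G : Type*} [Group G] [Fintype G] (N : Subgroup G) [N.Normal]

omit [N.Normal] in
theorem sum_comp_mk {M : Type*} [AddCommMonoid M] [Fintype (G ⧸ N)] (F : G ⧸ N → M) :
    ∑ g : G, F (g : G ⧸ N) = Nat.card N • ∑ q : G ⧸ N, F q := by
  rw [sum_eq_card_smul_sum_quotient N (fun g => F (g : G ⧸ N))]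
  · congr 1
    refine Finset.sum_congr rfl fun q _ => ?_
    rw [QuotientGroup.out_eq']
  · intro g z hz
    congr 1
    rw [QuotientGroup.eq]
    simpa using hz

theorem classInner_inflate [Fintype (G ⧸ N)] (φ ψ : G ⧸ N → ℂ) :
    Cfsg.classInner (fun g : G => φ (g : G ⧸ N)) (fun g : G => ψ (g : G ⧸ N)) =
      Cfsg.classInner φ ψ := by
  rw [Cfsg.classInner, Cfsg.classInner, sum_comp_mk N (fun q => φ q * conj (ψ q)),
    ← Subgroup.card_mul_index N, Subgroup.index, nsmul_eq_mul]
  have h1 : (Nat.card N : ℂ) ≠ 0 := card_subgroup_ne_zero N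
  push_cast
  rw [mul_inv]
  field_simp

/-- Inflation of an irreducible character of a quotient is irreducible. -/
theorem IsIrrCharacter.inflate {ψ : G ⧸ N → ℂ} (hψ : Cfsg.IsIrrCharacter (G ⧸ N) ψ) :
    Cfsg.IsIrrCharacter G (fun g : G => ψ (g : G ⧸ N)) := by
  classical
  cases nonempty_fintype (G ⧸ N)
  apply isIrrCharacter_of_classInner_eq_one
    (IsCharacter.comp_hom (QuotientGroup.mk' N) (IsIrrCharacter.isCharacter hψ))
  show Cfsg.classInner (fun g : G => ψ (g : G ⧸ N)) (fun g : G => ψ (g : G ⧸ N)) = 1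
  rw [classInner_inflate, classInner_irr hψ hψ, if_pos rfl]

end

end Cfsg.Agent.Lib.Helper2
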