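import Mathlib

/-! The dual of a finite abelian group: orthogonality relations. -/

set_option autoImplicit false

namespace Cfsg.Agent.Lib.Helper2.AbDual

open scoped ComplexConjugate

variable {A : Type*} [Group A] [Fintype A]

theorem finite_dual (hc : ∀ a b : A, a * b = b * a) : Finite (A →* ℂˣ) := by
  letI : CommGroup A := { (inferInstance : Group A) with mul_comm := hc }
  obtain ⟨e⟩ := CommGroup.monoidHom_mulEquiv_of_hasEnoughRootsOfUnity A ℂ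
  exact Finite.of_equiv A e.symm.toEquiv

theorem card_dual (hc : ∀ a b : A, a * b = b * a) : Nat.card (A →* ℂˣ) = Nat.card A := by
  letI : CommGroup A := { (inferInstance : Group A) with mul_comm := hc }
  exact CommGroup.card_monoidHom_of_hasEnoughRootsOfUnity A ℂ

theorem exists_ne_one (hc : ∀ a b : A, a * b = b * a) {a : A} (ha : a ≠ 1) :
    ∃ φ : A →* ℂˣ, φ a ≠ 1 := by
  letI : CommGroup A := { (inferInstance : Group A) with mul_comm := hc }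
  exact CommGroup.exists_apply_ne_one_of_hasEnoughRootsOfUnity A ℂ ha

theorem conj_apply (ψ : A →* ℂˣ) (a : A) :
    conj ((ψ a : ℂˣ) : ℂ) = (((ψ a)⁻¹ : ℂˣ) : ℂ) := by
  have h1 : ((ψ a : ℂˣ) : ℂ) ^ orderOf a = 1 := by
    rw [← Units.val_pow_eq_pow_val, ← map_pow, pow_orderOf_eq_one, map_one, Units.val_one]
  have h2 : ‖((ψ a : ℂˣ) : ℂ)‖ = 1 :=
    Complex.norm_eq_one_of_pow_eq_one h1 (orderOf_pos a).ne'
  rw [Units.val_inv_eq_inv_val, Complex.inv_eq_conj h2]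

theorem sum_apply {ψ : A →* ℂˣ} (hψ : ψ ≠ 1) : ∑ a : A, ((ψ a : ℂˣ) : ℂ) = 0 := by
  obtain ⟨b, hb⟩ : ∃ b, ψ b ≠ 1 := by
    by_contra hcon
    push Not at hcon
    exact hψ (MonoidHom.ext hcon)
  have h1 : ∑ a : A, ((ψ a : ℂˣ) : ℂ) = ((ψ b : ℂˣ) : ℂ) * ∑ a : A, ((ψ a : ℂˣ) : ℂ) := by
    rw [Finset.mul_sum, ← Equiv.sum_comp (Equiv.mulLeft b)]
    apply Finset.sum_congr rfl
    intro a _
    rw [Equiv.coe_mulLeft, map_mul, Units.val_mul]
  have h2 : (((ψ b : ℂˣ) : ℂ) - 1) * ∑ a : A, ((ψ a : ℂˣ) : ℂ) = 0 := by linear_combination -h1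
  rcases mul_eq_zero.mp h2 with h | h
  · exfalso
    apply hb
    apply Units.ext
    rw [Units.val_one]
    linear_combination h
  · exact h

theorem sum_dual (hc : ∀ a b : A, a * b = b * a) [Fintype (A →* ℂˣ)] {a : A} (ha : a ≠ 1) :
    ∑ ψ : A →* ℂˣ, ((ψ a : ℂˣ) : ℂ) = 0 := by
  obtain ⟨φ, hφ⟩ := exists_ne_one hc ha
  have h1 : ∑ ψ : A →* ℂˣ, ((ψ a : ℂˣ) : ℂ) =
      ((φ a : ℂˣ) : ℂ) * ∑ ψ : A →* ℂˣ, ((ψ a : ℂˣ) : ℂ) := by
    rw [Finset.mul_sum, ← Equiv.sum_comp (Equiv.mulLeft φ)]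
    apply Finset.sum_congr rfl
    intro ψ _
    rw [Equiv.coe_mulLeft, MonoidHom.mul_apply, Units.val_mul]
  have h2 : (((φ a : ℂˣ) : ℂ) - 1) * ∑ ψ : A →* ℂˣ, ((ψ a : ℂˣ) : ℂ) = 0 := by
    linear_combination -h1
  rcases mul_eq_zero.mp h2 with h | h
  · exfalso
    apply hφ
    apply Units.ext
    rw [Units.val_one]
    linear_combination h
  · exact h

open Classical in
theorem sum_mul_conj (ψ ψ' : A →* ℂˣ) :
    ∑ a : A, ((ψ a : ℂˣ) : ℂ) * conj ((ψ' a : ℂˣ) : ℂ) =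
      if ψ = ψ' then (Fintype.card A : ℂ) else 0 := by
  have h1 : ∀ a : A, ((ψ a : ℂˣ) : ℂ) * conj ((ψ' a : ℂˣ) : ℂ) = (((ψ * ψ'⁻¹) a : ℂˣ) : ℂ) := by
    intro a
    rw [conj_apply, MonoidHom.mul_apply, MonoidHom.inv_apply, Units.val_mul]
  simp only [h1]
  split_ifs with h
  · have h2 : ψ * ψ'⁻¹ = 1 := by rw [h]; exact mul_inv_cancel ψ'
    rw [h2]
    simp
  · apply sum_apply
    intro h2
    exact h (mul_inv_eq_one.mp h2)

open Classical in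
theorem sum_dual_mul_conj (hc : ∀ a b : A, a * b = b * a) [Fintype (A →* ℂˣ)] (a a' : A) :
    ∑ ψ : A →* ℂˣ, ((ψ a : ℂˣ) : ℂ) * conj ((ψ a' : ℂˣ) : ℂ) =
      if a = a' then (Fintype.card A : ℂ) else 0 := by
  have h1 : ∀ ψ : A →* ℂˣ, ((ψ a : ℂˣ) : ℂ) * conj ((ψ a' : ℂˣ) : ℂ) =
      ((ψ (a * a'⁻¹) : ℂˣ) : ℂ) := by
    intro ψ
    rw [conj_apply, map_mul, map_inv, Units.val_mul]
  simp only [h1]
  split_ifs with h
  · rw [h, mul_inv_cancel]
    simp only [map_one, Units.val_one, Finset.sum_const, Finset.card_univ, nsmul_eq_mul, mul_one]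
    rw [← Nat.card_eq_fintype_card, card_dual hc, Nat.card_eq_fintype_card]
  · apply sum_dual hc
    intro h2
    exact h (mul_inv_eq_one.mp h2)

end Cfsg.Agent.Lib.Helper2.AbDual
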