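import Mathlib
import Cfsg.Agent.Lib.Helper2.Isolated

set_option autoImplicit false

namespace Cfsg.Agent.Lib.Helper2

/-- A `2`-element normalizing a Sylow `2`-subgroup lies in it. -/
theorem mem_sylow_of_mem_normalizer_of_pow {p : ℕ} [Fact p.Prime] {G : Type*} [Group G] (Q : Sylow p G)
    {n : G} (hn : n ∈ Subgroup.normalizer ((Q : Subgroup G) : Set G)) {e : ℕ} (he : n ^ p ^ e = 1) :
    n ∈ Q := by
  have hz : IsPGroup p (Subgroup.zpowers n) := by
    rintro ⟨d, hd⟩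
    obtain ⟨i, rfl⟩ := Subgroup.mem_zpowers_iff.mp hd
    refine ⟨e, ?_⟩
    apply Subtype.ext
    show (n ^ i) ^ p ^ e = 1
    rw [← zpow_natCast, ← zpow_mul, mul_comm, zpow_mul, zpow_natCast, he, one_zpow]
  have h := hz.inf_normalizer_sylow Q
  have h1 : n ∈ Subgroup.zpowers n ⊓ Subgroup.normalizer (Q : Set G) :=
    ⟨Subgroup.mem_zpowers n, hn⟩
  rw [h] at h1
  exact h1.2

section Klein

variable {G : Type*} [Group G] [Finite G] (P : Sylow 2 G) (hP : IsKleinFour (P : Subgroup G))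
include hP

theorem klein_mul_self {x : G} (hx : x ∈ P) : x * x = 1 := by
  haveI := hP
  exact congrArg Subtype.val (IsKleinFour.mul_self (⟨x, hx⟩ : (P : Subgroup G)))

theorem klein_comm {x y : G} (hx : x ∈ P) (hy : y ∈ P) : x * y = y * x := by
  haveI := hP
  have := (IsKleinFour.isMulCommutative (G := (P : Subgroup G))).is_comm.comm ⟨x, hx⟩ ⟨y, hy⟩
  exact congrArg Subtype.val this

theorem klein_cases {x y z : G} (hx : x ∈ P) (hy : y ∈ P) (hz : z ∈ P) (hx1 : x ≠ 1) (hy1 : y ≠ 1)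
    (hxy : x ≠ y) (hz1 : z ≠ 1) : z = x ∨ z = y ∨ z = x * y := by
  haveI := hP
  by_cases hzx : z = x
  · exact Or.inl hzx
  by_cases hzy : z = y
  · exact Or.inr (Or.inl hzy)
  refine Or.inr (Or.inr ?_)
  have := IsKleinFour.eq_mul_of_ne_all (G := (P : Subgroup G)) (x := ⟨x, hx⟩) (y := ⟨y, hy⟩)
    (z := ⟨z, hz⟩) (fun h => hx1 (congrArg Subtype.val h)) (fun h => hy1 (congrArg Subtype.val h))
    (fun h => hxy (congrArg Subtype.val h)) (fun h => hz1 (congrArg Subtype.val h))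
    (fun h => hzx (congrArg Subtype.val h)) (fun h => hzy (congrArg Subtype.val h))
  exact congrArg Subtype.val this

theorem klein_exists : ∃ x y : G, x ∈ P ∧ y ∈ P ∧ x ≠ 1 ∧ y ≠ 1 ∧ x ≠ y := by
  haveI := hP
  obtain ⟨e⟩ := IsKleinFour.nonempty_mulEquiv (G₁ := Multiplicative (ZMod 2 × ZMod 2))
    (G₂ := (P : Subgroup G))
  refine ⟨e (Multiplicative.ofAdd (1, 0)), e (Multiplicative.ofAdd (0, 1)), (e _).2, (e _).2, ?_, ?_, ?_⟩
  · intro h
    have h1 : e (Multiplicative.ofAdd (1, 0)) = 1 := Subtype.ext h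
    rw [← map_one e] at h1
    exact absurd (e.injective h1) (by decide)
  · intro h
    have h1 : e (Multiplicative.ofAdd (0, 1)) = 1 := Subtype.ext h
    rw [← map_one e] at h1
    exact absurd (e.injective h1) (by decide)
  · intro h
    have h1 : e (Multiplicative.ofAdd (1, 0)) = e (Multiplicative.ofAdd (0, 1)) := Subtype.ext h
    exact absurd (e.injective h1) (by decide)

theorem klein_fusion {x y : G} (hx : x ∈ P) (hy : y ∈ P) (hx1 : x ≠ 1) (hy1 : y ≠ 1) (hxy : x ≠ y)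
    (hc : IsConj x y) : IsConj y (x * y) := by
  haveI := hP
  haveI : IsMulCommutative (P : Subgroup G) := IsKleinFour.isMulCommutative
  obtain ⟨g, hg⟩ := isConj_iff.mp hc
  obtain ⟨n, hn, hnx⟩ := P.conj_eq_normalizer_conj_of_mem x g⁻¹ hx (by rw [inv_inv, hg]; exact hy)
  rw [inv_inv, hg] at hnx
  have hw : n⁻¹ * y * n ∈ P := by
    have := (Subgroup.mem_normalizer_iff.mp (Subgroup.inv_mem _ hn) y).mp hy
    rwa [inv_inv] at this
  have hw1 : n⁻¹ * y * n ≠ 1 := by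
    intro h
    apply hy1
    have : y = n * (n⁻¹ * y * n) * n⁻¹ := by group
    rw [this, h]
    group
  have hwy : n⁻¹ * y * n ≠ y := by
    intro h
    apply hxy
    nth_rewrite 2 [hnx] at h
    exact (mul_left_cancel (mul_right_cancel h)).symm
  rcases klein_cases P hP hx hy hw hx1 hy1 hxy hw1 with h | h | h
  · exfalso
    -- `n` swaps `x` and `y`
    have hc2 : Commute (n ^ 2) x := by
      show n ^ 2 * x = x * n ^ 2
      have : x = n⁻¹ * (n⁻¹ * x * n) * n := by rw [← hnx, h]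
      calc n ^ 2 * x = n ^ 2 * (n⁻¹ * (n⁻¹ * x * n) * n) := by rw [← this]
        _ = x * n ^ 2 := by rw [pow_two]; group
    obtain ⟨e, m, hm, hord⟩ := Nat.exists_eq_two_pow_mul_odd (orderOf_pos n).ne'
    obtain ⟨j, hj⟩ := hm
    have hpow : (n ^ m) ^ 2 ^ e = 1 := by
      rw [← pow_mul, mul_comm, ← hord, pow_orderOf_eq_one]
    have hmem : n ^ m ∈ P :=
      mem_sylow_of_mem_normalizer_of_pow P (Subgroup.pow_mem _ hn m) hpow
    have h1 : (n ^ m)⁻¹ * x * n ^ m = y := by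
      have e1 : n ^ m = (n ^ 2) ^ j * n := by rw [hj, pow_succ, pow_mul]
      rw [e1, mul_inv_rev]
      calc n⁻¹ * ((n ^ 2) ^ j)⁻¹ * x * ((n ^ 2) ^ j * n)
          = n⁻¹ * (((n ^ 2) ^ j)⁻¹ * (x * (n ^ 2) ^ j)) * n := by group
        _ = n⁻¹ * (((n ^ 2) ^ j)⁻¹ * ((n ^ 2) ^ j * x)) * n := by rw [(hc2.pow_left j).eq]
        _ = n⁻¹ * x * n := by group
        _ = y := hnx.symm
    rw [mul_assoc, klein_comm P hP hx hmem, ← mul_assoc, inv_mul_cancel, one_mul] at h1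
    exact hxy h1
  · exact absurd h hwy
  · exact isConj_iff.mpr ⟨n⁻¹, by rw [inv_inv]; exact h⟩

/-- Either all involutions of `P` are conjugate or there is no fusion in `P`. -/
theorem klein_dichotomy :
    (∀ z ∈ P, ∀ w ∈ P, z ≠ 1 → w ≠ 1 → IsConj z w) ∨ (∀ z ∈ P, ∀ w ∈ P, IsConj z w → z = w) := by
  by_cases hf : ∀ z ∈ P, ∀ w ∈ P, IsConj z w → z = w
  · exact Or.inr hf
  · left
    push Not at hf
    obtain ⟨z, hz, w, hw, hzw, hne⟩ := hf
    have hz1 : z ≠ 1 := by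
      rintro rfl
      exact hne (isConj_one_right.mp hzw).symm
    have hw1 : w ≠ 1 := by
      rintro rfl
      exact hne (isConj_one_left.mp hzw)
    have h2 := klein_fusion P hP hz hw hz1 hw1 hne hzw
    have hall : ∀ a ∈ P, a ≠ 1 → IsConj z a := by
      intro a ha ha1
      rcases klein_cases P hP hz hw ha hz1 hw1 hne ha1 with rfl | rfl | rfl
      · exact IsConj.refl _
      · exact hzw
      · exact hzw.trans h2
    intro a ha b hb ha1 hb1
    exact (hall a ha ha1).symm.trans (hall b hb hb1)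

theorem klein_orderOf {x : G} (hx : x ∈ P) (hx1 : x ≠ 1) : orderOf x = 2 :=
  orderOf_two_of_mul_self (klein_mul_self P hP hx) hx1

/-- every involution is conjugate to an element of `P`. -/
theorem klein_exists_conj {t : G} (ht : orderOf t = 2) : ∃ a ∈ P, a ≠ 1 ∧ IsConj t a := by
  have hz : IsPGroup 2 (Subgroup.zpowers t) := by
    apply IsPGroup.of_card (n := 1)
    rw [Nat.card_zpowers, ht, pow_one]
  obtain ⟨c, hc⟩ := exists_conj_mem_sylow P hz
  refine ⟨c * t * c⁻¹, hc t (Subgroup.mem_zpowers t), ?_, isConj_iff.mpr ⟨c, rfl⟩⟩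
  apply ne_one_of_orderOf_two
  rw [orderOf_conj_eq, ht]

theorem klein_card_of_conj (h : ∀ z ∈ P, ∀ w ∈ P, z ≠ 1 → w ≠ 1 → IsConj z w) :
    Nat.card {C : ConjClasses G // ∃ t : G, orderOf t = 2 ∧ ConjClasses.mk t = C} = 1 := by
  obtain ⟨x, y, hx, hy, hx1, hy1, hxy⟩ := klein_exists P hP
  rw [Nat.card_eq_one_iff_unique]
  refine ⟨⟨?_⟩, ⟨⟨ConjClasses.mk x, x, klein_orderOf P hP hx hx1, rfl⟩⟩⟩
  rintro ⟨_, s, hs, rfl⟩ ⟨_, t, ht, rfl⟩
  apply Subtype.ext
  show ConjClasses.mk s = ConjClasses.mk t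
  rw [ConjClasses.mk_eq_mk_iff_isConj]
  obtain ⟨a, ha, ha1, hsa⟩ := klein_exists_conj P hP hs
  obtain ⟨b, hb, hb1, htb⟩ := klein_exists_conj P hP ht
  exact hsa.trans ((h a ha b hb ha1 hb1).trans htb.symm)

theorem klein_card_of_no_fusion (h : ∀ z ∈ P, ∀ w ∈ P, IsConj z w → z = w) :
    Nat.card {C : ConjClasses G // ∃ t : G, orderOf t = 2 ∧ ConjClasses.mk t = C} = 3 := by
  obtain ⟨x, y, hx, hy, hx1, hy1, hxy⟩ := klein_exists P hP
  have hxyP : x * y ∈ P := Subgroup.mul_mem _ hx hy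
  have hxy1 : x * y ≠ 1 := by
    intro h1
    apply hxy
    rw [← inv_eq_of_mul_self (klein_mul_self P hP hy)]
    exact eq_inv_of_mul_eq_one_left h1
  show Nat.card ↥{C : ConjClasses G | ∃ t : G, orderOf t = 2 ∧ ConjClasses.mk t = C} = 3
  rw [Nat.card_coe_set_eq, Set.ncard_eq_three]
  refine ⟨ConjClasses.mk x, ConjClasses.mk y, ConjClasses.mk (x * y), ?_, ?_, ?_, ?_⟩
  · rw [Ne, ConjClasses.mk_eq_mk_iff_isConj]
    exact fun hc => hxy (h x hx y hy hc)
  · rw [Ne, ConjClasses.mk_eq_mk_iff_isConj]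
    exact fun hc => hy1 (left_eq_mul.mp (h x hx _ hxyP hc))
  · rw [Ne, ConjClasses.mk_eq_mk_iff_isConj]
    exact fun hc => hx1 (right_eq_mul.mp (h y hy _ hxyP hc))
  · ext C
    constructor
    · rintro ⟨t, ht, rfl⟩
      obtain ⟨a, ha, ha1, hta⟩ := klein_exists_conj P hP ht
      rw [ConjClasses.mk_eq_mk_iff_isConj.mpr hta]
      rcases klein_cases P hP hx hy ha hx1 hy1 hxy ha1 with rfl | rfl | rfl
      · simp
      · simp
      · simp
    · rintro (rfl | rfl | rfl)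
      · exact ⟨x, klein_orderOf P hP hx hx1, rfl⟩
      · exact ⟨y, klein_orderOf P hP hy hy1, rfl⟩
      · exact ⟨x * y, klein_orderOf P hP hxyP hxy1, rfl⟩

end Klein

end Cfsg.Agent.Lib.Helper2
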