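import Mathlib

set_option autoImplicit false

namespace Cfsg.Agent.Lib.Helper2

/-- A group of order `n!/2` embedded in `S_n` is `A_n`. -/
theorem nonempty_mulEquiv_alternatingGroup_of_injective {G α : Type*} [Group G] [Fintype α]
    [DecidableEq α] (φ : G →* Equiv.Perm α) (hinj : Function.Injective φ)
    (hcard : 2 * Nat.card G = (Fintype.card α).factorial) :
    Nonempty (G ≃* alternatingGroup α) := by
  haveI : Finite G := Finite.of_injective φ hinj
  have h1 : Nat.card φ.range = Nat.card G :=
    (Nat.card_congr (MonoidHom.ofInjective hinj).toEquiv).symm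
  have h2 : φ.range.index = 2 := by
    have := φ.range.card_mul_index
    rw [h1, Nat.card_eq_fintype_card (α := Equiv.Perm α), Fintype.card_perm, ← hcard, mul_comm] at this
    exact Nat.eq_of_mul_eq_mul_right Nat.card_pos this
  have h3 := Equiv.Perm.eq_alternatingGroup_of_index_eq_two h2
  exact ⟨(MonoidHom.ofInjective hinj).trans (MulEquiv.subgroupCongr h3)⟩

/-- A group of order `n!/2` with a core-free subgroup of index `n` is `A_n`. -/
theorem nonempty_mulEquiv_alternatingGroup_of_index {G : Type*} [Group G] [Finite G]
    (H : Subgroup G) (n : ℕ) (hidx : H.index = n) (hcore : H.normalCore = ⊥)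
    (hcard : 2 * Nat.card G = n.factorial) : Nonempty (G ≃* alternatingGroup (Fin n)) := by
  classical
  cases nonempty_fintype (G ⧸ H)
  have hc : Fintype.card (G ⧸ H) = n := by
    rw [← Nat.card_eq_fintype_card]
    exact hidx
  rw [Subgroup.normalCore_eq_ker] at hcore
  have hinj : Function.Injective (MulAction.toPermHom G (G ⧸ H)) :=
    (MonoidHom.ker_eq_bot_iff _).mp hcore
  obtain ⟨e⟩ := nonempty_mulEquiv_alternatingGroup_of_injective _ hinj (by rw [hc]; exact hcard)
  exact ⟨e.trans (Equiv.altCongrHom (Fintype.equivFinOfCardEq hc))⟩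

/-- In a simple group every proper subgroup is core-free. -/
theorem normalCore_eq_bot_of_isSimpleGroup {G : Type*} [Group G] [IsSimpleGroup G] (H : Subgroup G)
    (hH : H ≠ ⊤) : H.normalCore = ⊥ := by
  rcases (Subgroup.normalCore_normal H).eq_bot_or_eq_top with h | h
  · exact h
  · exfalso
    apply hH
    rw [eq_top_iff, ← h]
    exact Subgroup.normalCore_le H

end Cfsg.Agent.Lib.Helper2
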