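import Mathlib
import Cfsg.Prelude.Def_Blocks
import Cfsg.Agent.Lib.Helper2.GSylGrp
import Cfsg.Agent.Lib.Helper2.GCoh
import Cfsg.Agent.Lib.Helper2.Isolated
import Cfsg.Agent.Lib.Helper2.CharOps
import Cfsg.Agent.Lib.Helper1.FrobNPC
import Cfsg.Agent.Lib.Helper6.KleinBlock
import Cfsg.Agent.Lib.Helper6.BlockBase
import Cfsg.Agent.Lib.Helper24.DefectZero
import Cfsg.Agent.S0914
import Cfsg.Agent.S0925
import Cfsg.Agent.S0928
import Cfsg.Agent.S0942
import Cfsg.Agent.S0947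

/-! Abelian Sylow subgroups with `N(P)/C(P)` semiregular: the principal block. -/

set_option autoImplicit false

namespace Cfsg.Agent.Lib.Helper2.GSyl

open Subgroup Cfsg Cfsg.Agent.Lib.Helper2 Cfsg.Agent.Lib.Helper6
open scoped ComplexConjugate Classical

attribute [local instance] irrFintype

variable {G : Type*} [Group G] [Finite G] {p : ℕ} [Fact p.Prime] {P : Sylow p G} {m : ℕ}
  {ε : ℕ → MulAut ↥(P : Subgroup G)}

namespace Hyp

theorem le_centralizer (h : Hyp P m ε) {y : G} (hy : y ∈ (P : Subgroup G)) :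
    (P : Subgroup G) ≤ centralizer ({y} : Set G) := by
  intro x hx
  rw [mem_centralizer_singleton_iff]
  exact congrArg Subtype.val (h.hab ⟨x, hx⟩ ⟨y, hy⟩)

theorem centralizer_facts (h : Hyp P m ε) {y : G} (hy : y ∈ (P : Subgroup G)) (hy1 : y ≠ 1) :
    (∃ k : ℕ, (Cfsg.pPrimeCore p (centralizer ({y} : Set G))).index = p ^ k) ∧
    p ^ (Nat.card (centralizer ({y} : Set G))).factorization p = Nat.card ↥(P : Subgroup G) := by
  have hle := h.le_centralizer hy
  set Q : Sylow p ↥(centralizer ({y} : Set G)) := P.subtype hle with hQ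
  have hmemQ : ∀ x : ↥(centralizer ({y} : Set G)),
      x ∈ (Q : Subgroup ↥(centralizer ({y} : Set G))) ↔ (x : G) ∈ (P : Subgroup G) := by
    intro x
    rw [hQ, Sylow.coe_subtype, mem_subgroupOf]
  constructor
  · apply pPrimeCore_index_of_burnside Q
    intro n hn
    have hnN : (n : G) ∈ normalizer ((P : Subgroup G) : Set G) := by
      apply mem_normalizer_fintype
      intro x hx
      have hx' : (⟨x, hle hx⟩ : ↥(centralizer ({y} : Set G))) ∈
          (Q : Subgroup ↥(centralizer ({y} : Set G))) := (hmemQ _).mpr hx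
      have := (mem_normalizer_iff.mp hn _).mp hx'
      exact (hmemQ _).mp this
    have hnC : (n : G) ∈ centralizer ((P : Subgroup G) : Set G) := by
      rw [← h.hfrob y hy hy1]
      exact mem_inf.mpr ⟨n.2, hnN⟩
    rw [mem_centralizer_iff]
    intro x hx
    apply Subtype.ext
    exact mem_centralizer_iff.mp hnC (x : G) ((hmemQ x).mp hx)
  · rw [← Q.card_eq_multiplicity, hQ, Sylow.coe_subtype]
    exact Nat.card_congr (subgroupOfEquivOfLe hle).toEquiv

/-- characters of the principal block are constant on the sections through `P` -/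
theorem value_of_section (h : Hyp P m ε) {M : Ideal AlgInt} (hM : IsPModular p M)
    {χ : IrrCharacter G} (hχ : χ ∈ principalBlock M G) {z y : G} (hz : IsPPart p z y)
    (hy : y ∈ (P : Subgroup G)) (hy1 : y ≠ 1) : (χ : G → ℂ) z = (χ : G → ℂ) y := by
  obtain ⟨w, rfl, hcomm, hk, hw⟩ := hz
  apply Cfsg.Agent.S0942.result p M hM y hk _ _ χ hχ
  have hwC : w ∈ centralizer ({y} : Set G) := by
    rw [mem_centralizer_singleton_iff]
    exact hcomm.eq.symm
  refine ⟨⟨w, hwC⟩, ?_, rfl⟩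
  obtain ⟨j, hj⟩ := (h.centralizer_facts hy hy1).1
  haveI : (Cfsg.pPrimeCore p (centralizer ({y} : Set G))).Normal := Cfsg.pPrimeCore_normal p _
  apply Cfsg.Agent.Lib.Helper1.mem_of_coprime_orderOf_index
  rw [hj, Subgroup.orderOf_mk]
  exact ((Nat.Prime.coprime_iff_not_dvd Fact.out).mpr hw).symm.pow_right j

theorem finsum_block {M : Ideal AlgInt} (f : IrrCharacter G → ℂ) :
    ∑ᶠ χ ∈ principalBlock M G, f χ = ∑ χ, if χ ∈ principalBlock M G then f χ else 0 := by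
  rw [finsum_mem_def, finsum_eq_sum_of_fintype]
  apply Finset.sum_congr rfl
  intro χ _
  by_cases hχ : χ ∈ principalBlock M G
  · rw [Set.indicator_of_mem hχ, if_pos hχ]
  · rw [Set.indicator_of_notMem hχ, if_neg hχ]

theorem isPBlock_principal {M : Ideal AlgInt} : IsPBlock M (principalBlock M G) :=
  ⟨⟨_, isIrrCharacter_one⟩, rfl⟩

theorem isPPart_self' {y : G} (hy : y ∈ (P : Subgroup G)) : IsPPart p y y := by
  refine ⟨1, mul_one y, Commute.one_right y, ?_, ?_⟩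
  · obtain ⟨k, hk⟩ := (IsPGroup.iff_orderOf.mp P.2) ⟨y, hy⟩
    exact ⟨k, by rw [← hk, Subgroup.orderOf_mk]⟩
  · rw [orderOf_one]
    exact (Fact.out : p.Prime).one_lt.ne' ∘ Nat.dvd_one.mp

/-- the columns of the principal block -/
theorem column (h : Hyp P m ε) {M : Ideal AlgInt} (hM : IsPModular p M)
    (y y' : ↥(P : Subgroup G)) (hy : y ≠ 1) (hy' : y' ≠ 1) :
    ∑ᶠ χ ∈ principalBlock M G, (χ : G → ℂ) y * conj ((χ : G → ℂ) y') =
      if ∃ i, i < m ∧ y' = ε i y then (Nat.card ↥(P : Subgroup G) : ℂ) else 0 := by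
  have hyG : (y : G) ≠ 1 := fun h0 => hy (Subtype.ext h0)
  have hinv : ∀ (χ : IrrCharacter G) (x : G), (χ : G → ℂ) x⁻¹ = conj ((χ : G → ℂ) x) :=
    fun χ x => IsCharacter.apply_inv (IsIrrCharacter.isCharacter χ.2) x
  split_ifs with hc
  · have hconj := (h.hconj y y').mpr hc
    obtain ⟨k, hk⟩ := (isPPart_self' y.2).choose_spec.2.2.1
    have s1 := (Cfsg.Agent.S0947.result p M hM (y : G) ⟨k, hk⟩ hyG 1 (by
      rw [orderOf_one]; exact (Fact.out : p.Prime).one_lt.ne' ∘ Nat.dvd_one.mp)).2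
      (h.centralizer_facts y.2 hyG).1
    rw [(h.centralizer_facts y.2 hyG).2] at s1
    have e1 : ∀ χ : IrrCharacter G, (χ : G → ℂ) y * conj ((χ : G → ℂ) y') =
        ((‖(χ : G → ℂ) ((y : G) * ((1 : centralizer ({(y : G)} : Set G)) : G))‖ ^ 2 : ℝ) : ℂ) := by
      intro χ
      rw [Subgroup.coe_one, mul_one,
        ← IsClassFunction.eq_of_isConj (irr_isClassFunction χ.2) hconj, Complex.mul_conj,
        Complex.normSq_eq_norm_sq]
    simp only [e1]
    rw [finsum_block]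
    have e2 : (∑ χ : IrrCharacter G, if χ ∈ principalBlock M G then
        ((‖(χ : G → ℂ) ((y : G) * ((1 : centralizer ({(y : G)} : Set G)) : G))‖ ^ 2 : ℝ) : ℂ) else 0) =
        ((∑ᶠ χ ∈ principalBlock M G,
          ‖(χ : G → ℂ) ((y : G) * ((1 : centralizer ({(y : G)} : Set G)) : G))‖ ^ 2 : ℝ) : ℂ) := by
      rw [finsum_mem_def, finsum_eq_sum_of_fintype]
      push_cast
      apply Finset.sum_congr rfl
      intro χ _
      by_cases hχ : χ ∈ principalBlock M G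
      · rw [Set.indicator_of_mem hχ, if_pos hχ]; push_cast; rfl
      · rw [Set.indicator_of_notMem hχ, if_neg hχ]; simp
    rw [e2, s1]
    simp
  · have hnc : ¬ IsConj (y : G) (y' : G) := fun hcon => hc ((h.hconj y y').mp hcon)
    have := (Cfsg.Agent.S0925.result (G := G) p M hM).2 y y' y y' (isPPart_self' y.2)
      (isPPart_self' y'.2) hnc _ isPBlock_principal
    rw [← this]
    apply finsum_mem_congr rfl
    intro χ _
    rw [hinv]

/-- orthogonality with the `p`-regular columns -/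
theorem column_reg {M : Ideal AlgInt} (hM : IsPModular p M)
    {x : G} (hx : ¬ p ∣ orderOf x) (y : ↥(P : Subgroup G)) (hy : y ≠ 1) :
    ∑ᶠ χ ∈ principalBlock M G, (χ : G → ℂ) x * conj ((χ : G → ℂ) y) = 0 := by
  have hyG : (y : G) ≠ 1 := fun h0 => hy (Subtype.ext h0)
  have hx1 : IsPPart p x 1 :=
    ⟨x, one_mul x, Commute.one_left x, ⟨0, by rw [orderOf_one, pow_zero]⟩, hx⟩
  have := (Cfsg.Agent.S0925.result (G := G) p M hM).2 x y 1 y hx1 (isPPart_self' y.2)
    (fun hc => hyG (isConj_one_right.mp hc)) _ isPBlock_principal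
  rw [← this]
  apply finsum_mem_congr rfl
  intro χ _
  rw [IsCharacter.apply_inv (IsIrrCharacter.isCharacter χ.2)]

/-- no member of the principal block vanishes on `P ∖ 1` -/
theorem not_vanish {M : Ideal AlgInt} (hM : IsPModular p M) (hP : Nat.card ↥(P : Subgroup G) ≠ 1)
    {χ : IrrCharacter G} (hχ : χ ∈ principalBlock M G)
    (hv : ∀ y : ↥(P : Subgroup G), y ≠ 1 → (χ : G → ℂ) y = 0) : False := by
  have hp : p.Prime := Fact.out
  have h1 : (Cfsg.charDegree (χ : G → ℂ)).factorization p = (Nat.card G).factorization p := by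
    apply Cfsg.Agent.S0928.result p χ
    intro x hx
    have hxp : IsPGroup p (zpowers x) := by
      apply IsPGroup.of_card (n := 1)
      rw [Nat.card_zpowers, hx, pow_one]
    obtain ⟨c, hc⟩ := exists_conj_mem_sylow P hxp
    have hcx := hc x (mem_zpowers x)
    have hne : (⟨c * x * c⁻¹, hcx⟩ : ↥(P : Subgroup G)) ≠ 1 := by
      intro h0
      have h2 : c * x * c⁻¹ = 1 := congrArg Subtype.val h0
      have h3 : x = 1 := by
        have : x = c⁻¹ * (c * x * c⁻¹) * c := by group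
        rw [this, h2]; group
      rw [h3, orderOf_one] at hx
      exact hp.one_lt.ne hx
    have := hv _ hne
    rw [← irr_isClassFunction χ.2 x c]
    exact this
  have h2 : ¬ p ∣ Nat.card G / Cfsg.charDegree (χ : G → ℂ) := by
    apply Cfsg.Agent.Lib.Helper24.not_dvd_card_div_degree χ.2
      (n := (Nat.card G).factorization p)
    · exact Nat.pow_succ_factorization_not_dvd (Nat.card_pos (α := G)).ne' hp
    · rw [← h1]
      exact Nat.ordProj_dvd _ _
  have h3 := (Cfsg.Agent.S0914.result p M hM χ).mp h2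
  obtain ⟨τ, hτ⟩ : ∃ τ : IrrCharacter G, (τ : G → ℂ) = fun _ => 1 := ⟨⟨_, isIrrCharacter_one⟩, rfl⟩
  have h4 : τ ∈ blockOf M (χ : G → ℂ) := by
    have h5 : SameBlock M (fun _ : G => (1 : ℂ)) (χ : G → ℂ) := hχ
    have h6 := SameBlock.symm h5
    rw [← hτ] at h6
    exact h6
  rw [h3, Set.mem_singleton_iff] at h4
  obtain ⟨y, hy⟩ : ∃ y : ↥(P : Subgroup G), y ≠ 1 := by
    by_contra hcon
    push Not at hcon
    apply hP
    rw [Nat.card_eq_one_iff_unique]
    exact ⟨⟨fun a b => (hcon a).trans (hcon b).symm⟩, ⟨1⟩⟩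
  have := hv y hy
  rw [← h4, hτ] at this
  exact one_ne_zero this

end Hyp

theorem finsum_mem_setOf {α M₀ : Type*} [Fintype α] [AddCommMonoid M₀] (q : α → Prop)
    (F : α → M₀) : ∑ᶠ a ∈ {a | q a}, F a = ∑ a ∈ Finset.univ.filter q, F a := by
  rw [finsum_mem_def, finsum_eq_sum_of_fintype, Finset.sum_filter]
  apply Finset.sum_congr rfl
  intro a _
  by_cases ha : q a
  · rw [Set.indicator_of_mem (show a ∈ {a | q a} from ha), if_pos ha]
  · rw [Set.indicator_of_notMem (show a ∉ {a | q a} from ha), if_neg ha]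

/-- the structure of the principal block -/
structure Str (h : Hyp P m ε) (M : Ideal AlgInt) where
  δ : ℤ
  d₀ : ℤ
  ζ : (↥(P : Subgroup G) →* ℂˣ) → IrrCharacter G
  f : IrrCharacter G → ℤ
  hδ : δ = 1 ∨ δ = -1
  hmem : ∀ ψ, ψ ≠ 1 → ζ ψ ∈ principalBlock M G
  hd : ∀ ψ, ψ ≠ 1 → f (ζ ψ) = d₀
  hζ : ∀ ψ ψ', ψ ≠ 1 → ψ' ≠ 1 → (ζ ψ = ζ ψ' ↔ ∃ i, i < m ∧ ∀ y, ψ' (ε i y) = ψ y)
  hmult : ∀ ψ, ψ ≠ 1 → ∀ χ ∈ principalBlock M G,
    (Nat.card ↥(P : Subgroup G) : ℂ)⁻¹ * ∑ᶠ y : ↥(P : Subgroup G),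
      (χ : G → ℂ) y * (conj ((ψ y : ℂˣ) : ℂ) - 1) = ((f χ + (if χ = ζ ψ then δ else 0) : ℤ) : ℂ)
  hval : ∀ χ ∈ principalBlock M G, ∀ y : ↥(P : Subgroup G), y ≠ 1 →
    (χ : G → ℂ) y = -(f χ : ℂ) + (δ : ℂ) *
      ∑ᶠ ψ ∈ {ψ : ↥(P : Subgroup G) →* ℂˣ | ψ ≠ 1 ∧ ζ ψ = χ}, ((ψ y : ℂˣ) : ℂ)
  hcard : Nat.card {χ : IrrCharacter G | ∃ ψ, ψ ≠ 1 ∧ ζ ψ = χ} * m =
    Nat.card ↥(P : Subgroup G) - 1
  hnorm : (d₀ + δ) ^ 2 + ((Nat.card {χ : IrrCharacter G | ∃ ψ, ψ ≠ 1 ∧ ζ ψ = χ} : ℤ) - 1) * d₀ ^ 2 +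
    ∑ᶠ χ ∈ {χ : IrrCharacter G | χ ∈ principalBlock M G ∧ ¬ ∃ ψ, ψ ≠ 1 ∧ ζ ψ = χ}, f χ ^ 2 = m + 1
  hreg : ∀ e : IrrCharacter G → ℂ, (∀ y : ↥(P : Subgroup G), y ≠ 1 →
      ∑ᶠ χ ∈ principalBlock M G, e χ * conj ((χ : G → ℂ) y) = 0) → ∀ ψ, ψ ≠ 1 →
    ∑ᶠ χ ∈ principalBlock M G, (f χ : ℂ) * e χ + (δ : ℂ) * e (ζ ψ) = 0
  hne : ∀ χ ∈ principalBlock M G, (¬ ∃ ψ, ψ ≠ 1 ∧ ζ ψ = χ) → f χ ≠ 0
  hfiber : ∀ ψ, ψ ≠ 1 → Nat.card {ψ' : ↥(P : Subgroup G) →* ℂˣ | ψ' ≠ 1 ∧ ζ ψ' = ζ ψ} = m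

open Cfsg.Agent.Lib.Helper2.GCol Cfsg.Agent.Lib.Helper2.AbDual in
theorem exists_str (h : Hyp P m ε) {M : Ideal AlgInt} (hM : IsPModular p M)
    (hcard : m + 1 < Nat.card ↥(P : Subgroup G)) : Nonempty (Str h M) := by
  letI := Fintype.ofFinite ↥(P : Subgroup G)
  haveI := finite_dual h.hab
  letI := Fintype.ofFinite (↥(P : Subgroup G) →* ℂˣ)
  have hNF : Nat.card ↥(P : Subgroup G) = Fintype.card ↥(P : Subgroup G) := Nat.card_eq_fintype_card
  have hP1 : Nat.card ↥(P : Subgroup G) ≠ 1 := by omega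
  set B := principalBlock M G with hB
  let D : ColData ↥(P : Subgroup G) (IrrCharacter G) :=
    { hc := h.hab
      e := ε
      m := m
      hone := h.hone
      hfree := h.hfree
      c := fun χ y => if χ ∈ B then (χ : G → ℂ) y else 0
      hint := by
        intro χ ψ
        by_cases hχ : χ ∈ B
        · obtain ⟨n, hn⟩ := IsCharacter.classInner_nat
            (IsCharacter.restrict (P : Subgroup G) (IsIrrCharacter.isCharacter χ.2))
            (IsIrrCharacter.isCharacter (isIrrCharacter_of_hom ψ))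
          refine ⟨n, ?_⟩
          simp only [if_pos hχ]
          unfold classInner at hn
          rw [hNF] at hn
          rw [Int.cast_natCast, ← hn]
        · refine ⟨0, ?_⟩
          simp only [if_neg hχ]
          simp
      hcol := by
        intro y y' hy hy'
        have := h.column hM y y' hy hy'
        rw [Hyp.finsum_block, hNF] at this
        refine Eq.trans ?_ (this.trans ?_)
        · apply Finset.sum_congr rfl
          intro χ _
          by_cases hχ : χ ∈ B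
          · simp only [if_pos hχ]
            rw [if_pos hχ]
          · simp only [if_neg hχ]
            rw [if_neg hχ]
            simp
        · congr 1 }
  have hDc : ∀ χ y, D.c χ y = if χ ∈ B then (χ : G → ℂ) y else 0 := fun _ _ => rfl
  have hDm : D.m = m := rfl
  have hDσ : D.e = ε := rfl
  have hconv : ∀ (e : IrrCharacter G → ℂ) (y : ↥(P : Subgroup G)),
      ∑ χ, e χ * conj (D.c χ y) = ∑ᶠ χ ∈ B, e χ * conj ((χ : G → ℂ) y) := by
    intro e y
    rw [Hyp.finsum_block]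
    apply Finset.sum_congr rfl
    intro χ _
    rw [hDc]
    by_cases hχ : χ ∈ B
    · rw [if_pos hχ, if_pos hχ]
    · rw [if_neg hχ, if_neg hχ]; simp
  obtain ⟨K⟩ := exists_coh D (by rw [← hNF]; exact hcard)
    (fun χ => (Cfsg.charDegree (χ : G → ℂ) : ℤ))
    (fun χ => by exact_mod_cast Cfsg.Agent.Lib.Helper24.charDegree_pos χ.2)
    (by
      intro y hy
      rw [hconv]
      have := Hyp.column_reg hM (x := (1 : G)) (by
        rw [orderOf_one]; exact (Fact.out : p.Prime).one_lt.ne' ∘ Nat.dvd_one.mp) y hy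
      rw [← this]
      apply finsum_mem_congr rfl
      intro χ _
      rw [Int.cast_natCast, Cfsg.Agent.Lib.Helper24.charDegree_cast (IsIrrCharacter.isCharacter χ.2)])
  have hδ0 : K.δ ≠ 0 := by rcases K.hδ with h' | h' <;> rw [h'] <;> norm_num
  have hYcard : 1 < K.Y.card := by
    have h1 := K.card_Y
    rw [hDm, ← hNF] at h1
    by_contra hcon
    have h2 : K.Y.card ≤ 1 := by omega
    have h3 : K.Y.card * m ≤ 1 * m := Nat.mul_le_mul_right m h2
    omega
  obtain ⟨ψ₀, hψ₀⟩ : ∃ ψ₀ : ↥(P : Subgroup G) →* ℂˣ, ψ₀ ≠ 1 := by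
    obtain ⟨χ, hχ⟩ := Finset.card_pos.mp (by omega : 0 < K.Y.card)
    obtain ⟨ψ, hψ, _⟩ := (K.mem_Y χ).mp hχ
    exact ⟨ψ, hψ⟩
  have hmz0 : ∀ χ, χ ∉ B → ∀ ψ, D.mz ψ χ = 0 := by
    intro χ hχ ψ
    have := D.mz_spec ψ χ
    simp only [hDc, if_neg hχ, zero_mul, Finset.sum_const_zero, mul_zero] at this
    exact_mod_cast this
  have hoffY : ∀ χ, χ ∉ B → χ ∉ K.Y := by
    intro χ hχ hY
    obtain ⟨ψ, hψ, rfl⟩ := (K.mem_Y _).mp hY
    obtain ⟨χ', hχ', hne⟩ := Finset.exists_mem_ne hYcard (K.ζ ψ)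
    obtain ⟨ψ', hψ', rfl⟩ := (K.mem_Y _).mp hχ'
    have h1 := K.hrep ψ' hψ' (K.ζ ψ)
    rw [hmz0 _ hχ, if_neg (Ne.symm hne)] at h1
    have h2 := K.hrep ψ hψ (K.ζ ψ)
    rw [hmz0 _ hχ, if_pos rfl] at h2
    apply hδ0
    linarith
  have hoff : ∀ χ, χ ∉ B → K.f χ = 0 := by
    intro χ hχ
    have h1 := K.hrep ψ₀ hψ₀ χ
    rw [hmz0 _ hχ, if_neg] at h1
    · linarith
    · rintro rfl
      exact hoffY _ hχ ((K.mem_Y _).mpr ⟨ψ₀, hψ₀, rfl⟩)
  have hYset : {χ : IrrCharacter G | ∃ ψ, ψ ≠ 1 ∧ K.ζ ψ = χ} = (K.Y : Set (IrrCharacter G)) := by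
    ext χ
    rw [Set.mem_ofPred_eq, Finset.mem_coe, K.mem_Y]
  have hYcard' : Nat.card {χ : IrrCharacter G | ∃ ψ, ψ ≠ 1 ∧ K.ζ ψ = χ} = K.Y.card := by
    rw [hYset]
    simp
  refine ⟨⟨K.δ, K.d₀, K.ζ, K.f, K.hδ, ?_, K.hd, ?_, ?_, ?_, ?_, ?_, ?_, ?_, ?_⟩⟩
  · intro ψ hψ
    by_contra hcon
    exact hoffY _ hcon ((K.mem_Y _).mpr ⟨ψ, hψ, rfl⟩)
  · intro ψ ψ' hψ hψ'
    rw [K.hζ ψ ψ' hψ hψ']
    constructor
    · rintro ⟨i, hi, hi'⟩
      refine ⟨i, hi, fun y => ?_⟩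
      rw [← hi']; rfl
    · rintro ⟨i, hi, hi'⟩
      exact ⟨i, hi, MonoidHom.ext hi'⟩
  · intro ψ hψ χ hχ
    have h1 := K.hrep ψ hψ χ
    have h2 := D.mz_spec ψ χ
    rw [h1] at h2
    rw [finsum_eq_sum_of_fintype, hNF]
    simp only [hDc, if_pos hχ] at h2
    have hχ' : χ ∈ B := hχ
    refine Eq.trans ?_ (h2.symm.trans ?_)
    · congr 1
      apply Finset.sum_congr rfl
      intro x _
      rw [if_pos hχ']
    · congr 3
  · intro χ hχ y hy
    have := K.value χ hy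
    rw [hDc, if_pos hχ] at this
    rw [this, finsum_mem_setOf]
    congr 2
    apply Finset.sum_congr _ (fun _ _ => rfl)
    ext ψ
    simp only [Finset.mem_filter]
  · rw [hYcard', hNF]
    exact K.card_Y
  · rw [hYcard', finsum_mem_setOf]
    have h1 := K.norm hψ₀
    rw [hDm] at h1
    rw [← h1]
    congr 1
    apply Finset.sum_subset_zero_on_sdiff
    · intro χ hχ
      simp only [Finset.mem_filter] at hχ
      simp only [Finset.mem_compl, K.mem_Y]
      exact hχ.2.2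
    · intro χ hχ
      simp only [Finset.mem_sdiff, Finset.mem_compl, Finset.mem_filter, K.mem_Y] at hχ
      have : χ ∉ B := fun hB' => hχ.2 ⟨Finset.mem_univ _, hB', hχ.1⟩
      rw [hoff χ this]; norm_num
    · intro χ _; rfl
  · intro e he ψ hψ
    have h1 := K.reg e (fun y hy => by rw [hconv]; exact he y hy) hψ
    rw [← h1, Hyp.finsum_block]
    congr 1
    apply Finset.sum_congr rfl
    intro χ _
    by_cases hχ : χ ∈ B
    · rw [if_pos hχ]
    · rw [if_neg hχ, hoff χ hχ]; simp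
  · intro χ hχ hY hf
    apply Hyp.not_vanish hM hP1 hχ
    intro y hy
    have := K.value χ hy
    rw [hDc, if_pos hχ, hf] at this
    rw [this, Finset.sum_eq_zero]
    · simp
    · intro ψ hψ
      simp only [Finset.mem_filter] at hψ
      exact absurd ⟨ψ, hψ.2⟩ hY
  · intro ψ hψ
    have h1 := K.fiber_card hψ
    rw [hDm] at h1
    rw [← h1, Nat.card_eq_fintype_card, Fintype.card_subtype]
    congr 1
    ext ψ'
    simp only [Finset.mem_filter, Finset.mem_univ, true_and, Set.mem_ofPred_eq]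

end Cfsg.Agent.Lib.Helper2.GSyl
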