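import Mathlib
import Cfsg.Agent.Lib.Helper2.GSylBlk

/-! Consequences of the structure `Str` of the principal block (abelian Sylow subgroup,
`N(P)/C(P)` semiregular). -/

set_option autoImplicit false

namespace Cfsg.Agent.Lib.Helper2.GSyl

open Subgroup Cfsg Cfsg.Agent.Lib.Helper2 Cfsg.Agent.Lib.Helper6
open scoped ComplexConjugate Classical

attribute [local instance] irrFintype

variable {G : Type*} [Group G] [Finite G] {p : ℕ} [Fact p.Prime] {P : Sylow p G} {m : ℕ}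
  {ε : ℕ → MulAut ↥(P : Subgroup G)}
variable {h : Hyp P m ε} {M : Ideal AlgInt}

/-- the trivial character -/
noncomputable def triv (G : Type*) [Group G] [Finite G] : IrrCharacter G :=
  ⟨fun _ => 1, isIrrCharacter_one⟩

theorem triv_apply (x : G) : ((triv G : IrrCharacter G) : G → ℂ) x = 1 := rfl

theorem triv_mem (hM : IsPModular p M) : triv G ∈ principalBlock M G := by
  haveI : M.IsPrime := hM.2.1.isPrime
  exact mem_blockOf_self (triv G)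

namespace Str

variable (S : Str h M)

/-- the exceptional characters -/
def Y : Set (IrrCharacter G) := {χ | ∃ ψ, ψ ≠ 1 ∧ S.ζ ψ = χ}

/-- the non-exceptional characters -/
def X : Set (IrrCharacter G) := {χ | χ ∈ principalBlock M G ∧ ¬ ∃ ψ, ψ ≠ 1 ∧ S.ζ ψ = χ}

theorem union : principalBlock M G = S.X ∪ S.Y := by
  ext χ
  constructor
  · intro hχ
    by_cases hY : ∃ ψ, ψ ≠ 1 ∧ S.ζ ψ = χ
    · exact Or.inr hY
    · exact Or.inl ⟨hχ, hY⟩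
  · rintro (hχ | ⟨ψ, hψ, rfl⟩)
    · exact hχ.1
    · exact S.hmem ψ hψ

theorem disj : Disjoint S.X S.Y := by
  rw [Set.disjoint_left]
  intro χ hX hY
  exact hX.2 hY

theorem card_Y_mul : Nat.card S.Y * m = Nat.card ↥(P : Subgroup G) - 1 := S.hcard

theorem card_Y : Nat.card S.Y = (Nat.card ↥(P : Subgroup G) - 1) / m := by
  obtain ⟨i, hi, _⟩ := h.hone
  rw [← S.card_Y_mul, Nat.mul_div_cancel _ (by omega : 0 < m)]

theorem one_lt_card_Y (hcard : m + 1 < Nat.card ↥(P : Subgroup G)) : 1 < Nat.card S.Y := by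
  have h1 := S.card_Y_mul
  by_contra hcon
  have h2 : Nat.card S.Y ≤ 1 := by omega
  have h3 : Nat.card S.Y * m ≤ 1 * m := Nat.mul_le_mul_right m h2
  omega

theorem exists_ne (hcard : m + 1 < Nat.card ↥(P : Subgroup G)) (χ : IrrCharacter G) :
    ∃ ψ, ψ ≠ 1 ∧ S.ζ ψ ≠ χ := by
  by_contra hcon
  push Not at hcon
  have h1 := S.one_lt_card_Y hcard
  have : Subsingleton S.Y := by
    constructor
    rintro ⟨a, ψ, hψ, rfl⟩ ⟨b, ψ', hψ', rfl⟩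
    apply Subtype.ext
    show S.ζ ψ = S.ζ ψ'
    rw [hcon ψ hψ, hcon ψ' hψ']
  have h2 : Nat.card S.Y ≤ 1 := Finite.card_le_one_iff_subsingleton.mpr this
  omega

theorem delta_ne : S.δ ≠ 0 := by
  rcases S.hδ with h' | h' <;> rw [h'] <;> norm_num

theorem delta_sq : S.δ ^ 2 = 1 := by
  rcases S.hδ with h' | h' <;> rw [h'] <;> norm_num

theorem mult_triv (hM : IsPModular p M) {ψ : ↥(P : Subgroup G) →* ℂˣ} (hψ : ψ ≠ 1) :
    S.f (triv G) + (if triv G = S.ζ ψ then S.δ else 0) = -1 := by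
  letI := Fintype.ofFinite ↥(P : Subgroup G)
  have h1 := S.hmult ψ hψ (triv G) (triv_mem hM)
  have h2 : ∑ᶠ y : ↥(P : Subgroup G), ((triv G : IrrCharacter G) : G → ℂ) y *
      (conj ((ψ y : ℂˣ) : ℂ) - 1) = -(Nat.card ↥(P : Subgroup G) : ℂ) := by
    rw [finsum_eq_sum_of_fintype]
    simp only [triv_apply, one_mul]
    rw [Finset.sum_sub_distrib, ← map_sum, AbDual.sum_apply hψ, map_zero, Finset.sum_const,
      Finset.card_univ, Nat.card_eq_fintype_card]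
    simp
  rw [h2] at h1
  have h3 : (Nat.card ↥(P : Subgroup G) : ℂ) ≠ 0 := by
    exact_mod_cast Nat.card_pos.ne'
  rw [mul_neg, inv_mul_cancel₀ h3] at h1
  exact_mod_cast h1.symm

theorem f_triv (hM : IsPModular p M) (hcard : m + 1 < Nat.card ↥(P : Subgroup G)) :
    S.f (triv G) = -1 := by
  obtain ⟨ψ, hψ, hne⟩ := S.exists_ne hcard (triv G)
  have := S.mult_triv hM hψ
  rwa [if_neg (Ne.symm hne), add_zero] at this

theorem triv_mem_X (hM : IsPModular p M) (hcard : m + 1 < Nat.card ↥(P : Subgroup G)) :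
    triv G ∈ S.X := by
  refine ⟨triv_mem hM, ?_⟩
  rintro ⟨ψ, hψ, hζ⟩
  have h1 := S.mult_triv hM hψ
  rw [if_pos hζ.symm, S.f_triv hM hcard] at h1
  exact S.delta_ne (by linarith)

theorem value_X (hM : IsPModular p M) {χ : IrrCharacter G} (hχ : χ ∈ S.X) {z y : G}
    (hz : IsPPart p z y) (hy : y ∈ (P : Subgroup G)) (hy1 : y ≠ 1) :
    (χ : G → ℂ) z = ((-S.f χ : ℤ) : ℂ) := by
  rw [h.value_of_section hM hχ.1 hz hy hy1]
  have := S.hval χ hχ.1 ⟨y, hy⟩ (fun h0 => hy1 (congrArg Subtype.val h0))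
  rw [show (χ : G → ℂ) y = (χ : G → ℂ) ((⟨y, hy⟩ : ↥(P : Subgroup G)) : G) from rfl, this]
  have h0 : {ψ : ↥(P : Subgroup G) →* ℂˣ | ψ ≠ 1 ∧ S.ζ ψ = χ} = ∅ := by
    ext ψ
    simp only [Set.mem_ofPred_eq, Set.mem_empty_iff_false, iff_false]
    intro hc
    exact hχ.2 ⟨ψ, hc⟩
  rw [h0, finsum_mem_empty]
  push_cast
  ring

theorem value_Y (hM : IsPModular p M) {ψ : ↥(P : Subgroup G) →* ℂˣ} (hψ : ψ ≠ 1) {z : G}
    {y : ↥(P : Subgroup G)} (hz : IsPPart p z (y : G)) (hy1 : (y : G) ≠ 1) :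
    (S.ζ ψ : G → ℂ) z = ((-S.d₀ : ℤ) : ℂ) + (S.δ : ℂ) *
      ∑ᶠ ψ' ∈ {ψ' : ↥(P : Subgroup G) →* ℂˣ | ψ' ≠ 1 ∧ S.ζ ψ' = S.ζ ψ}, ((ψ' y : ℂˣ) : ℂ) := by
  rw [h.value_of_section hM (S.hmem ψ hψ) hz y.2 hy1]
  rw [S.hval _ (S.hmem ψ hψ) y (fun h0 => hy1 (congrArg Subtype.val h0)), S.hd ψ hψ]
  push_cast
  rfl

theorem norm' : (S.d₀ + S.δ) ^ 2 + ((Nat.card S.Y : ℤ) - 1) * S.d₀ ^ 2 +
    ∑ᶠ χ ∈ S.X, S.f χ ^ 2 = m + 1 := S.hnorm

theorem card_X_le_sum : (Nat.card S.X : ℤ) ≤ ∑ᶠ χ ∈ S.X, S.f χ ^ 2 := by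
  have hfin : S.X.Finite := Set.toFinite _
  rw [finsum_mem_eq_finite_toFinset_sum _ hfin, Nat.card_eq_card_finite_toFinset hfin]
  have : ∀ χ ∈ hfin.toFinset, (1 : ℤ) ≤ S.f χ ^ 2 := by
    intro χ hχ
    rw [Set.Finite.mem_toFinset] at hχ
    have := S.hne χ hχ.1 hχ.2
    have h2 : 0 < S.f χ ^ 2 := by positivity
    omega
  calc (hfin.toFinset.card : ℤ) = ∑ χ ∈ hfin.toFinset, (1 : ℤ) := by simp
    _ ≤ _ := Finset.sum_le_sum this

theorem card_X_le (hcard : m + 1 < Nat.card ↥(P : Subgroup G)) : Nat.card S.X ≤ m := by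
  have h1 := S.norm'
  have h2 := S.card_X_le_sum
  have h3 := S.one_lt_card_Y hcard
  have h4 : (1 : ℤ) ≤ (S.d₀ + S.δ) ^ 2 + ((Nat.card S.Y : ℤ) - 1) * S.d₀ ^ 2 := by
    by_cases hd : S.d₀ = 0
    · rw [hd, zero_add, S.delta_sq]; norm_num
    · have h5 : 0 < S.d₀ ^ 2 := by positivity
      have h6 : (1 : ℤ) ≤ (Nat.card S.Y : ℤ) - 1 := by
        have : (2 : ℤ) ≤ (Nat.card S.Y : ℤ) := by exact_mod_cast h3
        linarith
      nlinarith [sq_nonneg (S.d₀ + S.δ)]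
  have : (Nat.card S.X : ℤ) ≤ m := by linarith
  exact_mod_cast this

theorem reg_eq (hM : IsPModular p M) {x : G} (hx : ¬ p ∣ orderOf x)
    {ψ : ↥(P : Subgroup G) →* ℂˣ} (hψ : ψ ≠ 1) :
    ∑ᶠ χ ∈ principalBlock M G, (S.f χ : ℂ) * (χ : G → ℂ) x + (S.δ : ℂ) * (S.ζ ψ : G → ℂ) x = 0 :=
  S.hreg (fun χ => (χ : G → ℂ) x) (fun y hy => Hyp.column_reg hM hx y hy) ψ hψ

theorem agree (hM : IsPModular p M) {x : G} (hx : ¬ p ∣ orderOf x)
    {η η' : IrrCharacter G} (hη : η ∈ S.Y) (hη' : η' ∈ S.Y) : (η : G → ℂ) x = (η' : G → ℂ) x := by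
  obtain ⟨ψ, hψ, rfl⟩ := hη
  obtain ⟨ψ', hψ', rfl⟩ := hη'
  have h1 := S.reg_eq hM hx hψ
  have h2 := S.reg_eq hM hx hψ'
  have h3 : (S.δ : ℂ) * ((S.ζ ψ : G → ℂ) x - (S.ζ ψ' : G → ℂ) x) = 0 := by
    linear_combination h1 - h2
  have h4 : (S.δ : ℂ) ≠ 0 := by exact_mod_cast S.delta_ne
  exact sub_eq_zero.mp ((mul_eq_zero.mp h3).resolve_left h4)

theorem reg_split (hM : IsPModular p M) {x : G} (hx : ¬ p ∣ orderOf x)
    {η : IrrCharacter G} (hη : η ∈ S.Y) :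
    ((Nat.card S.Y : ℂ) * (S.d₀ : ℂ) + (S.δ : ℂ)) * (η : G → ℂ) x +
      ∑ᶠ χ ∈ S.X, (S.f χ : ℂ) * (χ : G → ℂ) x = 0 := by
  obtain ⟨ψ, hψ, rfl⟩ := hη
  have h1 := S.reg_eq hM hx hψ
  rw [S.union, finsum_mem_union S.disj (Set.toFinite _) (Set.toFinite _)] at h1
  have h2 : ∑ᶠ χ ∈ S.Y, (S.f χ : ℂ) * (χ : G → ℂ) x =
      (Nat.card S.Y : ℂ) * ((S.d₀ : ℂ) * (S.ζ ψ : G → ℂ) x) := by
    have hfin : S.Y.Finite := Set.toFinite _
    rw [finsum_mem_eq_finite_toFinset_sum _ hfin, Nat.card_eq_card_finite_toFinset hfin]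
    rw [Finset.sum_congr rfl (g := fun _ => (S.d₀ : ℂ) * (S.ζ ψ : G → ℂ) x)]
    · rw [Finset.sum_const, nsmul_eq_mul]
    · intro χ hχ
      rw [Set.Finite.mem_toFinset] at hχ
      rw [S.agree hM hx hχ ⟨ψ, hψ, rfl⟩]
      obtain ⟨ψ', hψ', rfl⟩ := hχ
      rw [S.hd ψ' hψ']
  rw [h2] at h1
  linear_combination h1

end Str

end Cfsg.Agent.Lib.Helper2.GSyl
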