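import Mathlib

set_option autoImplicit false

namespace Cfsg.Agent.Lib.Helper2

variable {G : Type*} [Group G]

/-- Orbit-stabilizer for conjugacy classes. -/
theorem card_conj_mul_card_centralizer [Finite G] (g : G) :
    Nat.card {x : G // IsConj g x} * Nat.card (Subgroup.centralizer ({g} : Set G)) = Nat.card G := by
  rw [Subgroup.nat_card_centralizer_nat_card_stabilizer,
    Nat.card_congr (ConjAct.toConjAct (G := G)).toEquiv,
    ← Nat.card_congr (MulAction.orbitProdStabilizerEquivGroup (ConjAct G) g), Nat.card_prod]
  congr 1
  apply Nat.card_congr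
  apply Equiv.subtypeEquivRight
  intro x
  rw [ConjAct.mem_orbit_conjAct]
  exact isConj_comm

end Cfsg.Agent.Lib.Helper2
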