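import Mathlib
import Cfsg.Agent.Lib.Helper2.Dihedral
import Cfsg.Agent.Lib.Helper2.Count
import Cfsg.Agent.S0238

set_option autoImplicit false

namespace Cfsg.Agent.Lib.Helper2

variable {G : Type*} [Group G]

/-- number of ways of writing `x` as a product of two involutions. -/
noncomputable def invPairs (x : G) : ℕ :=
  Nat.card {p : G × G // orderOf p.1 = 2 ∧ orderOf p.2 = 2 ∧ p.1 * p.2 = x}

/-- number of involutions. -/
noncomputable def numInv (G : Type*) [Group G] : ℕ := Nat.card {t : G // orderOf t = 2}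

theorem numInv_sq [Fintype G] : numInv G * numInv G = ∑ x : G, invPairs x := by
  unfold numInv invPairs
  rw [← Nat.card_prod, ← Nat.card_sigma]
  apply Nat.card_congr
  exact
    { toFun := fun p => ⟨p.1.1 * p.2.1, ⟨(p.1.1, p.2.1), p.1.2, p.2.2, rfl⟩⟩
      invFun := fun q => (⟨q.2.1.1, q.2.2.1⟩, ⟨q.2.1.2, q.2.2.2.1⟩)
      left_inv := fun p => rfl
      right_inv := by
        rintro ⟨x, ⟨⟨u, v⟩, hu, hv, rfl⟩⟩
        rfl }

theorem invPairs_one : invPairs (1 : G) = numInv G := by
  unfold numInv invPairs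
  apply Nat.card_congr
  exact
    { toFun := fun p => ⟨p.1.1, p.2.1⟩
      invFun := fun t => ⟨(t.1, t.1), t.2, t.2, mul_self_of_orderOf_two t.2⟩
      left_inv := by
        rintro ⟨⟨u, v⟩, hu, hv, huv⟩
        apply Subtype.ext
        show (u, u) = (u, v)
        have h1 : u * v = 1 := huv
        have hu' : orderOf u = 2 := hu
        have h2 : v = u :=
          (inv_eq_of_mul_eq_one_right h1).symm.trans (inv_eq_of_mul_self (mul_self_of_orderOf_two hu'))
        rw [h2]
      right_inv := fun t => rfl }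

theorem isConj_inv_of_orderOf_two {x : G} (hx : orderOf x = 2) : IsConj x x⁻¹ := by
  rw [inv_eq_of_mul_self (mul_self_of_orderOf_two hx)]

open Classical in
/-- The Brauer–Fowler counting inequality. -/
theorem numInv_sq_add_le [Fintype G] :
    numInv G * numInv G + numInv G ≤
      ∑ x ∈ Finset.univ.filter (fun x : G => x ≠ 1 ∧ IsConj x x⁻¹),
        Nat.card (Subgroup.centralizer ({x} : Set G)) := by
  set R := Finset.univ.filter (fun x : G => x ≠ 1 ∧ IsConj x x⁻¹) with hR
  have h1 : ∑ x : G, invPairs x = numInv G + ∑ x ∈ R, invPairs x := by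
    rw [← Finset.add_sum_erase Finset.univ _ (Finset.mem_univ (1 : G)), invPairs_one]
    congr 1
    symm
    apply Finset.sum_subset
    · intro x hx
      rw [hR, Finset.mem_filter] at hx
      exact Finset.mem_erase.mpr ⟨hx.2.1, Finset.mem_univ _⟩
    · intro x hx hxR
      rw [Finset.mem_erase] at hx
      apply (Cfsg.Agent.S0238.result x).2.1
      intro hc
      exact hxR (by rw [hR, Finset.mem_filter]; exact ⟨Finset.mem_univ _, hx.1, hc⟩)
  have h2 : ∑ x ∈ R, (invPairs x + if orderOf x = 2 then 2 else 0) ≤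
      ∑ x ∈ R, Nat.card (Subgroup.centralizer ({x} : Set G)) := by
    apply Finset.sum_le_sum
    intro x _
    split_ifs with hx
    · exact (Cfsg.Agent.S0238.result x).2.2 hx
    · exact (Cfsg.Agent.S0238.result x).1
  have h3 : ∑ x ∈ R, (if orderOf x = 2 then 2 else 0) = 2 * numInv G := by
    rw [← Finset.sum_filter, Finset.sum_const, smul_eq_mul, mul_comm]
    congr 1
    unfold numInv
    rw [Nat.card_eq_fintype_card, Fintype.card_subtype]
    congr 1
    ext x
    simp only [hR, Finset.mem_filter, Finset.mem_univ, true_and]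
    constructor
    · exact fun h => h.2
    · exact fun h => ⟨⟨ne_one_of_orderOf_two h, isConj_inv_of_orderOf_two h⟩, h⟩
  rw [Finset.sum_add_distrib, h3] at h2
  rw [numInv_sq, h1]
  omega

end Cfsg.Agent.Lib.Helper2

namespace Cfsg.Agent.Lib.Helper2

variable {G : Type*} [Group G]

/-- The extended centralizer `C*(x) = {g | x^g = x^{±1}}`. -/
def extCentralizer (x : G) : Subgroup G where
  carrier := {g | g * x * g⁻¹ = x ∨ g * x * g⁻¹ = x⁻¹}
  one_mem' := Or.inl (by simp)
  mul_mem' := by
    intro a b ha hb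
    have e : a * b * x * (a * b)⁻¹ = a * (b * x * b⁻¹) * a⁻¹ := by group
    have e' : a * x⁻¹ * a⁻¹ = (a * x * a⁻¹)⁻¹ := by group
    show a * b * x * (a * b)⁻¹ = x ∨ a * b * x * (a * b)⁻¹ = x⁻¹
    rw [e]
    rcases ha with ha | ha <;> rcases hb with hb | hb
    · left; rw [hb, ha]
    · right; rw [hb, e', ha]
    · right; rw [hb, ha]
    · left; rw [hb, e', ha, inv_inv]
  inv_mem' := by
    intro a ha
    show a⁻¹ * x * a⁻¹⁻¹ = x ∨ a⁻¹ * x * a⁻¹⁻¹ = x⁻¹
    rcases ha with ha | ha
    · left
      nth_rewrite 1 [← ha]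
      group
    · right
      have : x = (a * x * a⁻¹)⁻¹ := by rw [ha, inv_inv]
      nth_rewrite 1 [this]
      group

theorem mem_extCentralizer {x g : G} :
    g ∈ extCentralizer x ↔ g * x * g⁻¹ = x ∨ g * x * g⁻¹ = x⁻¹ := Iff.rfl

theorem card_extCentralizer [Finite G] {x : G} (hreal : IsConj x x⁻¹) (hx : x ≠ x⁻¹) :
    Nat.card (extCentralizer x) = 2 * Nat.card (Subgroup.centralizer ({x} : Set G)) := by
  classical
  have hdisj : Disjoint (fun g : G => g * x * g⁻¹ = x) (fun g : G => g * x * g⁻¹ = x⁻¹) := by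
    rw [Pi.disjoint_iff]
    intro g
    rw [Prop.disjoint_iff]
    rintro ⟨h1, h2⟩
    exact hx (h1.symm.trans h2)
  have e := subtypeOrEquiv (fun g : G => g * x * g⁻¹ = x) (fun g : G => g * x * g⁻¹ = x⁻¹) hdisj
  have h1 : Nat.card (extCentralizer x) =
      Nat.card {g : G // g * x * g⁻¹ = x} + Nat.card {g : G // g * x * g⁻¹ = x⁻¹} := by
    rw [← Nat.card_sum]
    exact Nat.card_congr e
  have h2 : Nat.card {g : G // g * x * g⁻¹ = x} = Nat.card (Subgroup.centralizer ({x} : Set G)) := by
    apply Nat.card_congr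
    apply Equiv.subtypeEquivRight
    intro g
    rw [Subgroup.mem_centralizer_singleton_iff, mul_inv_eq_iff_eq_mul]
  rw [h1, h2, Cfsg.Agent.S0237.result x hreal, two_mul]

end Cfsg.Agent.Lib.Helper2
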