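import Mathlib
import Cfsg.Agent.Lib.Helper2.Dihedral

/-! Two distinct commuting involutions generate a Klein four-group. -/

set_option autoImplicit false

namespace Cfsg.Agent.Lib.Helper2

variable {G : Type*} [Group G]

theorem coe_closure_commuting_involutions {x y : G} (hx : x * x = 1) (hy : y * y = 1)
    (hc : Commute x y) : ((Subgroup.closure ({x, y} : Set G) : Subgroup G) : Set G) =
      {1, x, y, x * y} := by
  have hr : (x * y) * (x * y) = 1 := by
    rw [hc.symm.mul_mul_mul_comm, hx, hy, one_mul]
  have hpow : ∀ k : ℤ, (x * y) ^ k = 1 ∨ (x * y) ^ k = x * y := by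
    intro k
    rcases Int.even_or_odd' k with ⟨m, rfl | rfl⟩
    · left
      rw [zpow_mul, zpow_two, hr, one_zpow]
    · right
      rw [zpow_add, zpow_mul, zpow_two, hr, one_zpow, one_mul, zpow_one]
  ext d
  simp only [SetLike.mem_coe, Set.mem_insert_iff, Set.mem_singleton_iff]
  constructor
  · intro hd
    obtain ⟨k, rfl | rfl⟩ := (mem_closure_pair_iff hx hy d).mp hd
    · rcases hpow k with h | h
      · left; exact h
      · right; right; right; exact h
    · rcases hpow k with h | h
      · right; left; rw [h, one_mul]
      · right; right; left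
        rw [h, hc.eq, mul_assoc, hx, mul_one]
  · rintro (rfl | rfl | rfl | rfl)
    · exact Subgroup.one_mem _
    · exact fst_mem_closure_pair
    · exact snd_mem_closure_pair
    · exact Subgroup.mul_mem _ fst_mem_closure_pair snd_mem_closure_pair

theorem isKleinFour_closure {x y : G} (hx : orderOf x = 2) (hy : orderOf y = 2)
    (hc : Commute x y) (hne : x ≠ y) : IsKleinFour (Subgroup.closure ({x, y} : Set G)) := by
  have hx2 := mul_self_of_orderOf_two hx
  have hy2 := mul_self_of_orderOf_two hy
  have hx1 := ne_one_of_orderOf_two hx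
  have hy1 := ne_one_of_orderOf_two hy
  have hset := coe_closure_commuting_involutions hx2 hy2 hc
  have hcard : Nat.card (Subgroup.closure ({x, y} : Set G)) = 4 := by
    have h1 : Nat.card (Subgroup.closure ({x, y} : Set G)) =
        ((Subgroup.closure ({x, y} : Set G) : Subgroup G) : Set G).ncard :=
      Nat.card_coe_set_eq _
    rw [h1, hset]
    have hxy1 : x * y ≠ 1 := by
      intro h
      apply hne
      have : x * y = x * x := by rw [h, hx2]
      exact (mul_left_cancel this).symm
    have hxyx : x * y ≠ x := by
      intro h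
      exact hy1 (mul_eq_left.mp h)
    have hxyy : x * y ≠ y := by
      intro h
      exact hx1 (mul_eq_right.mp h)
    rw [Set.ncard_insert_of_notMem (by
        simp only [Set.mem_insert_iff, Set.mem_singleton_iff, not_or]
        exact ⟨hx1.symm, hy1.symm, hxy1.symm⟩),
      Set.ncard_insert_of_notMem (by
        simp only [Set.mem_insert_iff, Set.mem_singleton_iff, not_or]
        exact ⟨hne, hxyx.symm⟩),
      Set.ncard_pair hxyy.symm]
  refine ⟨hcard, ?_⟩
  have hexp : ∀ c : Subgroup.closure ({x, y} : Set G), c * c = 1 := by
    rintro ⟨d, hd⟩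
    apply Subtype.ext
    show d * d = 1
    have : d ∈ ((Subgroup.closure ({x, y} : Set G) : Subgroup G) : Set G) := hd
    rw [hset] at this
    simp only [Set.mem_insert_iff, Set.mem_singleton_iff] at this
    rcases this with rfl | rfl | rfl | rfl
    · exact one_mul 1
    · exact hx2
    · exact hy2
    · rw [hc.symm.mul_mul_mul_comm, hx2, hy2, one_mul]
  have h1 : Monoid.exponent (Subgroup.closure ({x, y} : Set G)) ∣ 2 :=
    Monoid.exponent_dvd_of_forall_pow_eq_one (fun c => by rw [pow_two, hexp])
  rcases (Nat.prime_two.eq_one_or_self_of_dvd _ h1) with h | h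
  · exfalso
    have := Monoid.exp_eq_one_iff.1 h
    have h2 : Nat.card (Subgroup.closure ({x, y} : Set G)) ≤ 1 :=
      Finite.card_le_one_iff_subsingleton.2 this
    omega
  · exact h

end Cfsg.Agent.Lib.Helper2
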