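import Mathlib
import Cfsg.Agent.Lib.Helper2.ZStarQ8Val

/-! Values of characters on a quaternion Sylow `2`-subgroup of order `8` (fusion hypothesis). -/

set_option autoImplicit false

namespace Cfsg.Agent.Lib.Helper2

open Cfsg
open scoped ComplexConjugate IsMulCommutative

variable {G : Type*} [Group G] [Finite G] {S : Sylow 2 G} {t : G}

theorem IsQ8.char_values_of_fusion (h : IsQ8 (S : Subgroup G) t)
    (hfus : ∀ x y : G, x ∈ (S : Subgroup G) → y ∈ (S : Subgroup G) → x * x = t → y * y = t → IsConj x y) {v : G}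
    (hvS : v ∈ (S : Subgroup G)) (hv : v * v = t) {χ : G → ℂ} (hχ : IsCharacter G χ) :
    ∃ d a e : ℤ, χ 1 = d ∧ χ t = a ∧ χ v = e ∧ (4 : ℤ) ∣ d - a ∧ (8 : ℤ) ∣ d + a + 6 * e := by
  classical
  have hcf := IsCharacter.isClassFunction hχ
  obtain ⟨d, hd⟩ := IsCharacter.apply_one hχ
  have ho := h.orderOf_four hv
  have hv2 : v ^ 2 = t := by rw [pow_two, hv]
  have hv4 : v ^ 4 = 1 := by rw [← ho, pow_orderOf_eq_one]
  have hv3 : v ^ 3 = v⁻¹ := by
    rw [eq_inv_iff_mul_eq_one, ← pow_succ, hv4]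
  have hχ3 : χ (v ^ 3) = χ v := by
    rw [hv3]
    exact (IsClassFunction.eq_of_isConj hcf (h.conj_inv hvS hv)).symm
  letI : Fintype (Subgroup.zpowers v) := Fintype.ofFinite _
  letI : Fintype (S : Subgroup G) := Fintype.ofFinite _
  set g : Subgroup.zpowers v := ⟨v, Subgroup.mem_zpowers v⟩ with hg
  have hg4 : g ^ 4 = 1 := Subtype.ext (by simpa using hv4)
  have hg2 : g ^ 2 ≠ 1 := by
    intro h2
    have : v ^ 2 = 1 := by simpa using congrArg Subtype.val h2
    rw [hv2] at this
    exact h.t_ne this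
  obtain ⟨φ, hφ⟩ := CommGroup.exists_apply_ne_one_of_hasEnoughRootsOfUnity
    (Subgroup.zpowers v) ℂ hg2
  set c : ℂ := (φ g : ℂ) with hc
  have hc4 : c ^ 4 = 1 := by
    have : (φ g) ^ 4 = 1 := by rw [← map_pow, hg4, map_one]
    have := congrArg (Units.val) this
    simpa using this
  have hc2 : c ^ 2 = -1 := by
    have hne : c ^ 2 ≠ 1 := by
      intro h2
      apply hφ
      rw [map_pow]
      apply Units.ext
      rw [Units.val_pow_eq_pow_val, Units.val_one]
      exact h2
    have : (c ^ 2 - 1) * (c ^ 2 + 1) = 0 := by linear_combination hc4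
    rcases mul_eq_zero.mp this with h' | h'
    · exact absurd (sub_eq_zero.mp h') hne
    · linear_combination h'
  have hcard4 : (Nat.card (Subgroup.zpowers v) : ℂ) = 4 := by
    rw [Nat.card_zpowers, ho]; norm_num
  -- the three inner products on `⟨v⟩`
  obtain ⟨n1, hn1⟩ := sum_restrict_hom hχ (Subgroup.zpowers v) φ
  obtain ⟨n0, hn0⟩ := sum_restrict_hom hχ (Subgroup.zpowers v) 1
  obtain ⟨n2, hn2⟩ := sum_restrict_hom hχ (Subgroup.zpowers v) (φ ^ 2)
  rw [sum_zpowers_four ho, hcard4] at hn1 hn0 hn2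
  simp only [map_one, map_pow, Units.val_one, Units.val_pow_eq_pow_val, MonoidHom.one_apply,
    MonoidHom.pow_apply, Subgroup.coe_one, Subgroup.coe_pow, ← hg, ← hc, mul_one] at hn1 hn0 hn2
  have hgv : (g : G) = v := rfl
  rw [hgv, hv2, hχ3, hd] at hn1 hn0 hn2
  have hc2' : (conj c) ^ 2 = -1 := by
    rw [← map_pow, hc2]; simp
  have e1 : (d : ℂ) - χ t = n1 * 4 := by
    linear_combination hn1 - (χ t + χ v * conj c) * hc2'
  have e0 : (d : ℂ) + χ t + 2 * χ v = n0 * 4 := by
    rw [← hn0]; ring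
  have e2 : (d : ℂ) + χ t - 2 * χ v = n2 * 4 := by
    linear_combination hn2 + (χ t * (1 - (conj c) ^ 2) -
      χ v * (((conj c) ^ 2) ^ 2 - (conj c) ^ 2 + 2)) * hc2'
  have ha : χ t = ((d - 4 * n1 : ℤ) : ℂ) := by
    push_cast
    linear_combination -e1
  have he : χ v = ((n0 - n2 : ℤ) : ℂ) := by
    push_cast
    linear_combination (1 / 4 : ℂ) * e0 - (1 / 4 : ℂ) * e2
  -- the inner product with the trivial character of `S`
  obtain ⟨m, hm⟩ := sum_restrict_hom hχ (S : Subgroup G) 1
  have hcard8 : (Nat.card (S : Subgroup G) : ℂ) = 8 := by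
    rw [h.card]; norm_num
  have hsum : ∑ x : (S : Subgroup G), (χ x - χ v) = (χ 1 - χ v) + (χ t - χ v) := by
    have := Finset.sum_eq_add (s := Finset.univ) (f := fun x : (S : Subgroup G) => χ x - χ v)
      (1 : (S : Subgroup G)) ⟨t, h.t_mem⟩ (by
        intro h1
        exact h.t_ne (congrArg Subtype.val h1).symm) (by
        intro x _ hx
        have hx1 : (x : G) ≠ 1 := fun h1 => hx.1 (Subtype.ext h1)
        have hxt : (x : G) ≠ t := fun h1 => hx.2 (Subtype.ext h1)
        have hxx : (x : G) * (x : G) = t := by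
          rcases h.sq x x.2 with h' | h' | h'
          · exact absurd h' hx1
          · exact absurd h' hxt
          · exact h'
        show χ x - χ v = 0
        rw [IsClassFunction.eq_of_isConj hcf (hfus _ _ x.2 hvS hxx hv), sub_self])
      (fun h1 => absurd (Finset.mem_univ _) h1) (fun h1 => absurd (Finset.mem_univ _) h1)
    exact this
  rw [Finset.sum_sub_distrib, Finset.sum_const, Finset.card_univ, ← Nat.card_eq_fintype_card,
    h.card] at hsum
  simp only [MonoidHom.one_apply, Units.val_one, map_one, mul_one] at hm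
  rw [hcard8] at hm
  have e8 : (d : ℂ) + χ t + 6 * χ v = m * 8 := by
    rw [← hm, ← hd]
    simp only [nsmul_eq_mul] at hsum
    push_cast at hsum
    linear_combination -hsum
  refine ⟨d, d - 4 * n1, n0 - n2, by rw [hd]; simp, ha, he, ⟨n1, by ring⟩, ⟨m, ?_⟩⟩
  rw [ha, he] at e8
  have : (((d : ℤ) + (d - 4 * n1) + 6 * (n0 - n2) : ℤ) : ℂ) = ((8 * m : ℤ) : ℂ) := by
    push_cast
    push_cast at e8
    linear_combination e8
  exact_mod_cast this

end Cfsg.Agent.Lib.Helper2
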