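import Mathlib
import Cfsg.Prelude.Def_Involutions

set_option autoImplicit false

namespace Cfsg.Agent.Lib.Helper2

variable {G : Type*} [Group G]

/-- A finite group has odd order iff it has no involution. -/
theorem odd_card_iff_no_involution [Finite G] :
    Odd (Nat.card G) ↔ ∀ t : G, orderOf t ≠ 2 := by
  constructor
  · intro h t ht
    have h2 : 2 ∣ Nat.card G := ht ▸ orderOf_dvd_natCard t
    exact (Nat.not_even_iff_odd.mpr h) (even_iff_two_dvd.mpr h2)
  · intro h
    by_contra hodd
    rw [Nat.not_odd_iff_even, even_iff_two_dvd] at hodd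
    obtain ⟨t, ht⟩ := exists_prime_orderOf_dvd_card' 2 hodd
    exact h t ht

theorem odd_card_subgroup_iff_no_involution [Finite G] (K : Subgroup G) :
    Odd (Nat.card K) ↔ ∀ t ∈ K, orderOf t ≠ 2 := by
  rw [odd_card_iff_no_involution]
  constructor
  · intro h t ht h2
    exact h ⟨t, ht⟩ (by rw [← h2]; exact Subgroup.orderOf_mk t ht)
  · intro h t h2
    exact h t t.2 (by rw [← h2]; exact (Subgroup.orderOf_coe t))

theorem even_card_subgroup_iff_exists_involution [Finite G] (K : Subgroup G) :
    Even (Nat.card K) ↔ ∃ t ∈ K, orderOf t = 2 := by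
  rw [← Nat.not_odd_iff_even, odd_card_subgroup_iff_no_involution]
  push Not
  rfl

theorem mem_map_conj_iff (H : Subgroup G) (g t : G) :
    t ∈ H.map (MulAut.conj g).toMonoidHom ↔ g⁻¹ * t * g ∈ H := by
  constructor
  · rintro ⟨h, hh, rfl⟩
    have : g⁻¹ * (MulAut.conj g).toMonoidHom h * g = h := by
      simp [MulAut.conj_apply, mul_assoc]
    rw [this]
    exact hh
  · intro h
    exact ⟨_, h, by simp [MulAut.conj_apply, mul_assoc]⟩

/-- Elementwise form of strong embedding. -/
theorem isStronglyEmbedded_iff [Finite G] (H : Subgroup G) :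
    Cfsg.IsStronglyEmbedded H ↔ H ≠ ⊤ ∧ Even (Nat.card H) ∧
      ∀ t ∈ H, orderOf t = 2 → ∀ g : G, g⁻¹ * t * g ∈ H → g ∈ H := by
  unfold Cfsg.IsStronglyEmbedded
  refine and_congr_right fun _ => and_congr_right fun _ => ?_
  constructor
  · intro h t ht ht2 g hg
    by_contra hgH
    exact (odd_card_subgroup_iff_no_involution _).mp (h g hgH) t
      ⟨ht, (mem_map_conj_iff H g t).mpr hg⟩ ht2
  · intro h g hg
    rw [odd_card_subgroup_iff_no_involution]
    rintro t ⟨ht, htg⟩ ht2
    exact hg (h t ht ht2 g ((mem_map_conj_iff H g t).mp htg))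

end Cfsg.Agent.Lib.Helper2
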